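import Mathlib.Algebra.Category.ModuleCat.Sheaf.Limits
import Mathlib.Algebra.Category.ModuleCat.Sheaf.Colimits
import Mathlib.Algebra.Category.ModuleCat.Sheaf.Abelian
import Mathlib.CategoryTheory.Abelian.GrothendieckAxioms.Sheaf
import Mathlib.CategoryTheory.Abelian.Exact
import Groth.Agent.Gaga.H976.TM0

/-!
# The forgetful functor from sheaves of modules to abelian sheaves, elementwise exactness

`C` is a small site, `R` a sheaf of rings on `C`.
* `preservesColimits_toSheaf`: `toSheaf` preserves small colimits;
* `exact_iff_toSheaf`, `shortExact_iff_toSheaf`;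
* `exact_iff`: a complex of sheaves of modules is exact iff sections killed by `g` lift locally.
-/

set_option autoImplicit false

universe u

open CategoryTheory CategoryTheory.Limits Opposite

namespace K296.Ab

open Groth.Agent.Gaga.H976.TM0

variable {C : Type u} [SmallCategory C] {J : GrothendieckTopology C} (R : Sheaf J RingCat.{u})

/-- `toSheaf` preserves colimits of any small shape. -/
theorem preservesColimitsOfShape_toSheaf (K : Type u) [SmallCategory K] :
    PreservesColimitsOfShape K (SheafOfModules.toSheaf.{u} R) := by
  have : PreservesColimitsOfShape K (presheafToSheaf J AddCommGrpCat.{u}) :=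
    (CategoryTheory.sheafificationAdjunction J
      AddCommGrpCat.{u}).leftAdjoint_preservesColimits.preservesColimitsOfShape
  have : PreservesColimitsOfShape K
      (PresheafOfModules.sheafification.{u} (𝟙 R.obj) ⋙ SheafOfModules.toSheaf.{u} R) :=
    inferInstanceAs (PreservesColimitsOfShape K
      (PresheafOfModules.toPresheaf _ ⋙ presheafToSheaf J AddCommGrpCat.{u}))
  exact preservesColimitsOfShape_of_reflective
      (PresheafOfModules.sheafificationAdjunction.{u} (𝟙 R.obj)) _ K

/-- `toSheaf` preserves small colimits. -/
theorem preservesColimits_toSheaf : PreservesColimitsOfSize.{u, u} (SheafOfModules.toSheaf.{u} R) :=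
  ⟨fun {K _} => preservesColimitsOfShape_toSheaf R K⟩

end K296.Ab
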