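import Groth.Prelude.Def_ModSite
import Groth.Agent.ModSite.K296.Ab

/-!
# Maps out of `freeOn O U` are sections over `U`

* `ap f V`, `rs F g`: action of a morphism on sections, restriction of sections, as additive maps;
* `hom_ext`: morphisms of sheaves of modules are equal when they agree on sections;
* `epi_iff`, `mono_iff`, `exact_iff`: elementwise criteria;
* `gen O U`, `homEquiv : (freeOn O U ⟶ F) ≃+ F(U)`, `lift`, naturality.
-/

set_option autoImplicit false

universe u

open CategoryTheory CategoryTheory.Limits Opposite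

namespace K296.FreeOn

open ModSite

variable {C : Type u} [SmallCategory C] {J : GrothendieckTopology C} {O : Sheaf J CommRingCat.{u}}

/-- The action of a morphism on sections. -/
noncomputable def ap {F G : Mod O} (f : F ⟶ G) (V : C) : sect F V →+ sect G V :=
  (f.val.app (op V)).hom.toAddMonoidHom

/-- Restriction of sections. -/
noncomputable def rs (F : Mod O) {V W : C} (g : W ⟶ V) : sect F V →+ sect F W :=
  (((toAb F).obj.map g.op).hom : _ →+ _)

lemma rs_apply (F : Mod O) {V W : C} (g : W ⟶ V) (s : sect F V) :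
    rs F g s = (F.val.map g.op).hom s := rfl

lemma ap_rs {F G : Mod O} (f : F ⟶ G) {V W : C} (g : W ⟶ V) (s : sect F V) :
    ap f W (rs F g s) = rs G g (ap f V s) :=
  PresheafOfModules.naturality_apply f.val g.op s

lemma ap_smul {F G : Mod O} (f : F ⟶ G) {V : C} (r : O.obj.obj (op V)) (s : sect F V) :
    ap f V (r • s) = r • ap f V s := (f.val.app (op V)).hom.map_smul r s

lemma rs_smul (F : Mod O) {V W : C} (g : W ⟶ V) (r : O.obj.obj (op V)) (s : sect F V) :
    rs F g (r • s) = (O.obj.map g.op).hom r • rs F g s := F.val.map_smul g.op r s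

@[simp]
lemma rs_id (F : Mod O) {V : C} (s : sect F V) : rs F (𝟙 V) s = s := by
  have h : (toAb F).obj.map (𝟙 V).op = 𝟙 _ := (toAb F).obj.map_id _
  exact ConcreteCategory.congr_hom h s

lemma rs_rs (F : Mod O) {V W Z : C} (g : W ⟶ V) (h : Z ⟶ W) (s : sect F V) :
    rs F h (rs F g s) = rs F (h ≫ g) s := by
  have e : (toAb F).obj.map (h ≫ g).op = (toAb F).obj.map g.op ≫ (toAb F).obj.map h.op :=
    (toAb F).obj.map_comp g.op h.op
  exact (ConcreteCategory.congr_hom e s).symm

@[simp]
lemma ap_id (F : Mod O) {V : C} (s : sect F V) : ap (𝟙 F) V s = s := rfl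

@[simp]
lemma ap_comp {F G H : Mod O} (f : F ⟶ G) (g : G ⟶ H) {V : C} (s : sect F V) :
    ap (f ≫ g) V s = ap g V (ap f V s) := rfl

lemma ap_add' {F G : Mod O} (f g : F ⟶ G) {V : C} (s : sect F V) :
    ap (f + g) V s = ap f V s + ap g V s := rfl

@[simp]
lemma ap_zero' {F G : Mod O} {V : C} (s : sect F V) : ap (0 : F ⟶ G) V s = 0 := rfl

lemma hom_ext {F G : Mod O} {f g : F ⟶ G} (h : ∀ (V : C) (s : sect F V), ap f V s = ap g V s) :
    f = g := by
  apply SheafOfModules.hom_ext
  ext V s
  exact h V.unop s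

/-- A section is zero if it is so locally. -/
lemma eq_zero_of_locally {F : Mod O} {V : C} (s : sect F V) (S : Sieve V) (hS : S ∈ J V)
    (h : ∀ ⦃W : C⦄ (g : W ⟶ V), S g → rs F g s = 0) : s = 0 := by
  have hsep : Presheaf.IsSeparated J F.val.presheaf := F.isSheaf.isSeparated
  refine hsep V S hS s 0 (fun W g hg => ?_)
  rw [map_zero]
  exact h g hg

lemma eq_of_locally {F : Mod O} {V : C} (s t : sect F V) (S : Sieve V) (hS : S ∈ J V)
    (h : ∀ ⦃W : C⦄ (g : W ⟶ V), S g → rs F g s = rs F g t) : s = t := by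
  rw [← sub_eq_zero]
  refine eq_zero_of_locally _ S hS fun W g hg => ?_
  rw [map_sub, h g hg, sub_self]

theorem epi_iff {F G : Mod O} (f : F ⟶ G) : Epi f ↔ ∀ (V : C) (t : sect G V), ∃ S : Sieve V, S ∈ J V ∧
    ∀ ⦃W : C⦄ (g : W ⟶ V), S g → ∃ s : sect F W, ap f W s = rs G g t :=
  Groth.Agent.Gaga.H976.TM0.epi_iff f

theorem mono_iff {F G : Mod O} (f : F ⟶ G) : Mono f ↔ ∀ (V : C) (s : sect F V), ap f V s = 0 → s = 0 := by
  rw [Groth.Agent.Gaga.H976.TM0.mono_iff f]
  constructor
  · intro h V s hs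
    exact h (op V) (hs.trans (map_zero (ap f V)).symm)
  · intro h V s t hst
    rw [← sub_eq_zero]
    exact h V.unop (s - t) ((map_sub (ap f V.unop) s t).trans (sub_eq_zero.2 hst))

theorem exists_kernel {F G : Mod O} (f : F ⟶ G) (V : C) (s : sect F V) (hs : ap f V s = 0) :
    ∃ k : sect (kernel f) V, ap (kernel.ι f) V k = s :=
  Groth.Agent.Gaga.H976.TM0.exists_kernel f (op V) s hs

/-- Sections over `V` killed by the second map of an exact complex with monomorphic first map. -/
theorem exists_of_exact_mono (S : ShortComplex (Mod O)) (hS : S.Exact) [Mono S.f] (V : C) (s : sect S.X₂ V)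
    (hs : ap S.g V s = 0) : ∃ t : sect S.X₁ V, ap S.f V t = s := by
  obtain ⟨k, hk⟩ := exists_kernel S.g V s hs
  have h1 := hS.lift_f (kernel.ι S.g) (kernel.condition S.g)
  refine ⟨ap (hS.lift (kernel.ι S.g) (kernel.condition S.g)) V k, ?_⟩
  rw [← ap_comp, h1, hk]

/-- A complex is exact iff sections killed by the second map lift locally. -/
theorem exact_iff (S : ShortComplex (Mod O)) : S.Exact ↔ ∀ (V : C) (s : sect S.X₂ V), ap S.g V s = 0 →
    ∃ T : Sieve V, T ∈ J V ∧ ∀ ⦃W : C⦄ (g : W ⟶ V), T g → ∃ t : sect S.X₁ W, ap S.f W t = rs S.X₂ g s := by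
  have hw : S.f ≫ S.g = 0 := S.zero
  have h0 : S.Exact ↔ Epi (kernel.lift S.g S.f hw) := by
    rw [ShortComplex.exact_iff_epi_kernel_lift]
  rw [h0, epi_iff]
  constructor
  · intro h V s hs
    obtain ⟨k, hk⟩ := exists_kernel S.g V s hs
    obtain ⟨T, hT, hT'⟩ := h V k
    refine ⟨T, hT, fun W g hg => ?_⟩
    obtain ⟨t, ht⟩ := hT' g hg
    refine ⟨t, ?_⟩
    have h2 := congrArg (ap (kernel.ι S.g) W) ht
    rw [← ap_comp, kernel.lift_ι, ap_rs, hk] at h2
    exact h2
  · intro h V k
    have hk : ap S.g V (ap (kernel.ι S.g) V k) = 0 := by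
      rw [← ap_comp, kernel.condition, ap_zero']
    obtain ⟨T, hT, hT'⟩ := h V _ hk
    refine ⟨T, hT, fun W g hg => ?_⟩
    obtain ⟨t, ht⟩ := hT' g hg
    refine ⟨t, ?_⟩
    have hm : Mono (kernel.ι S.g) := inferInstance
    rw [mono_iff] at hm
    rw [← sub_eq_zero]
    apply hm
    rw [map_sub, ← ap_comp, kernel.lift_ι, ap_rs, ht, sub_self]

section Gen

variable (O) (U : C)

/-- The generator of `freeOn O U`. -/
noncomputable def gen : sect (freeOn O U) U :=
  ((extZeroAdj O U).unit.app (SheafOfModules.unit _)).val.app (op (Over.mk (𝟙 U)))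
    (1 : (O.over U).obj.obj (op (Over.mk (𝟙 U))))

variable {O U}

/-- Global sections of a module over `C/U`. -/
noncomputable def secOfElem {M : Mod (O.over U)} (s : M.val.obj (op (Over.mk (𝟙 U)))) : M.sections :=
  M.val.sectionsMk (fun X => M.val.map ((Over.mkIdTerminal (X := U)).from X.unop).op s) (by
    intro X Y f
    rw [← PresheafOfModules.map_comp_apply]
    apply PresheafOfModules.congr_map_apply
    apply Quiver.Hom.unop_inj
    exact (Over.mkIdTerminal (X := U)).hom_ext _ _)

lemma hom_ext_gen {F : Mod O} {f g : freeOn O U ⟶ F} (h : ap f U (gen O U) = ap g U (gen O U)) : f = g := by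
  apply ((extZeroAdj O U).homEquiv _ _).injective
  apply (SheafOfModules.unitHomEquiv _).injective
  apply PresheafOfModules.sections_ext
  intro X
  let t : X.unop ⟶ Over.mk (𝟙 U) := (Over.mkIdTerminal (X := U)).from X.unop
  have key : ∀ k : freeOn O U ⟶ F,
      ((SheafOfModules.unitHomEquiv _) ((extZeroAdj O U).homEquiv _ _ k)).1 (op (Over.mk (𝟙 U))) =
        ap k U (gen O U) := by
    intro k
    rw [Adjunction.homEquiv_unit]
    rfl
  have hf := PresheafOfModules.sections_property
    ((SheafOfModules.unitHomEquiv _) ((extZeroAdj O U).homEquiv _ _ f)) t.op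
  have hg := PresheafOfModules.sections_property
    ((SheafOfModules.unitHomEquiv _) ((extZeroAdj O U).homEquiv _ _ g)) t.op
  refine hf.symm.trans (Eq.trans ?_ hg)
  exact congrArg _ ((key f).trans (h.trans (key g).symm))

/-- The map out of `freeOn O U` given by a section over `U`. -/
noncomputable def lift {F : Mod O} (s : sect F U) : freeOn O U ⟶ F :=
  ((extZeroAdj O U).homEquiv _ _).symm ((SheafOfModules.unitHomEquiv _).symm
    (secOfElem (M := (restr O U).obj F) s))

@[simp]
lemma ap_lift_gen {F : Mod O} (s : sect F U) : ap (lift s) U (gen O U) = s := by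
  have h1 : ap (lift s) U (gen O U) =
      ((SheafOfModules.unitHomEquiv _) ((extZeroAdj O U).homEquiv _ _ (lift s))).1 (op (Over.mk (𝟙 U))) := by
    rw [Adjunction.homEquiv_unit]
    rfl
  rw [h1, lift, Equiv.apply_symm_apply, Equiv.apply_symm_apply]
  change (F.val.map ((Over.mkIdTerminal (X := U)).from (Over.mk (𝟙 U))).left.op).hom s = s
  have h2 : ((Over.mkIdTerminal (X := U)).from (Over.mk (𝟙 U))) = 𝟙 _ :=
    (Over.mkIdTerminal (X := U)).hom_ext _ _
  rw [h2]
  exact rs_id F s

@[simp]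
lemma lift_ap_gen {F : Mod O} (f : freeOn O U ⟶ F) : lift (ap f U (gen O U)) = f :=
  hom_ext_gen (ap_lift_gen _)

variable (U) in
/-- Maps out of `freeOn O U` are sections over `U`. -/
noncomputable def homEquiv (F : Mod O) : (freeOn O U ⟶ F) ≃+ sect F U where
  toFun f := ap f U (gen O U)
  invFun s := lift s
  left_inv f := lift_ap_gen f
  right_inv s := ap_lift_gen s
  map_add' f g := ap_add' f g _

lemma homEquiv_apply {F : Mod O} (f : freeOn O U ⟶ F) : homEquiv U F f = ap f U (gen O U) := rfl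

lemma lift_comp {F G : Mod O} (s : sect F U) (f : F ⟶ G) : lift s ≫ f = lift (ap f U s) :=
  hom_ext_gen (by rw [ap_comp, ap_lift_gen, ap_lift_gen])

lemma lift_zero {F : Mod O} : lift (0 : sect F U) = 0 := hom_ext_gen (by rw [ap_lift_gen, ap_zero'])

lemma lift_add {F : Mod O} (s t : sect F U) : lift (s + t) = lift s + lift t :=
  hom_ext_gen (by rw [ap_lift_gen, ap_add', ap_lift_gen, ap_lift_gen])

variable (O) in
/-- Functoriality of `freeOn` in the object. -/
noncomputable def map {V : C} (g : V ⟶ U) : freeOn O V ⟶ freeOn O U := lift (rs _ g (gen O U))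

lemma map_lift {F : Mod O} {V : C} (g : V ⟶ U) (s : sect F U) : map O g ≫ lift s = lift (rs F g s) :=
  hom_ext_gen (by rw [ap_comp, map, ap_lift_gen, ap_rs, ap_lift_gen, ap_lift_gen])

@[simp]
lemma map_id : map O (𝟙 U) = 𝟙 _ := hom_ext_gen (by rw [map, ap_lift_gen, rs_id, ap_id])

lemma map_map {V W : C} (g : V ⟶ U) (h : W ⟶ V) : map O h ≫ map O g = map O (h ≫ g) := by
  rw [map, map, lift_comp, ap_rs, ap_lift_gen, rs_rs]
  rfl

end Gen

end K296.FreeOn
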