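import Groth.Prelude.Def_CohCx
import Mathlib.CategoryTheory.Sites.LocallySurjective
import Mathlib.CategoryTheory.Sites.LocallyInjective
import Mathlib.CategoryTheory.Sites.LocallyBijective

/-!
# Quasi-compact objects of a site, on coverings

If the sheaf of sets attached to `W` is a quasi-compact object of the topos and every object has a covering by members
of `B`, every covering sieve of `W` contains a finite covering family with sources in `B`.
-/

set_option autoImplicit false

universe u

open CategoryTheory CategoryTheory.Limits Opposite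

namespace K296.Qc

variable {C : Type u} [SmallCategory C] {J : GrothendieckTopology C}

/-- The sheaf of sets attached to an object. -/
noncomputable abbrev hs (J : GrothendieckTopology C) (W : C) : Sheaf J (Type u) :=
  (presheafToSheaf J (Type u)).obj (yoneda.obj W)

/-- The section of the sheaf of sets attached to `W` given by a map. -/
noncomputable def el (J : GrothendieckTopology C) {W V : C} (f : V ⟶ W) : (hs J W).obj.obj (op V) :=
  (toSheafify J (yoneda.obj W)).app (op V) f

/-- The map of sheaves of sets given by a map. -/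
noncomputable def hm (J : GrothendieckTopology C) {Y W : C} (g : Y ⟶ W) : hs J Y ⟶ hs J W :=
  (presheafToSheaf J (Type u)).map (yoneda.map g)

lemma hm_el {Y W V : C} (g : Y ⟶ W) (f : V ⟶ Y) :
    (hm J g).hom.app (op V) (el J f) = el J (f ≫ g) := by
  have h := toSheafify_naturality J (yoneda.map g)
  have h2 := ConcreteCategory.congr_hom (congr_app h (op V)) f
  exact h2.symm

lemma map_el {W V V' : C} (f : V ⟶ W) (v : V' ⟶ V) :
    (hs J W).obj.map v.op (el J f) = el J (v ≫ f) := by
  have h := (toSheafify J (yoneda.obj W)).naturality v.op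
  exact (ConcreteCategory.congr_hom h f).symm

lemma exists_el {W V : C} (s : (hs J W).obj.obj (op V)) :
    ∃ T ∈ J V, ∀ ⦃V' : C⦄ (v : V' ⟶ V), T v → ∃ x : V' ⟶ W, el J x = (hs J W).obj.map v.op s := by
  have h : Presheaf.IsLocallySurjective J (toSheafify J (yoneda.obj W)) := inferInstance
  exact ⟨Presheaf.imageSieve (toSheafify J (yoneda.obj W)) s,
    Presheaf.imageSieve_mem J (toSheafify J (yoneda.obj W)) s, fun V' v hv => hv⟩

lemma eq_locally {W V : C} (f g : V ⟶ W) (h : el J f = el J g) :
    ∃ T ∈ J V, ∀ ⦃V' : C⦄ (v : V' ⟶ V), T v → v ≫ f = v ≫ g :=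
  ⟨Presheaf.equalizerSieve (F := yoneda.obj W) (X := op V) f g,
    Presheaf.equalizerSieve_mem J (toSheafify J (yoneda.obj W)) (X := op V) f g h, fun _ _ hv => hv⟩

/-- Every covering sieve of a quasi-compact object contains a finite covering family with sources in `B`. -/
theorem exists_finite_cover {W : C} (hW : CohCx.IsQcObject (hs J W)) (B : Set C)
    (hB : ∀ X : C, ∃ (κ : Type u) (Y : κ → C) (g : ∀ k, Y k ⟶ X), Sieve.ofArrows Y g ∈ J X ∧ ∀ k, Y k ∈ B)
    (S : Sieve W) (hS : S ∈ J W) :
    ∃ (κ : Type u) (_ : Finite κ) (Y : κ → C) (g : ∀ k, Y k ⟶ W), (∀ k, Y k ∈ B) ∧ (∀ k, S (g k)) ∧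
      Sieve.ofArrows Y g ∈ J W := by
  classical
  let I : Type u := {p : Σ Y : C, (Y ⟶ W) // p.1 ∈ B ∧ S p.2}
  have hI : CohCx.JointlySurjective (K := hs J W) (I := I) (L := fun i => hs J i.1.1) (fun i => hm J i.1.2) := by
    intro V s
    let R : Sieve V :=
      { arrows := fun V' v => ∃ (i : I) (x : (hs J i.1.1).obj.obj (op V')),
          (hm J i.1.2).hom.app (op V') x = (hs J W).obj.map v.op s
        downward_closed := by
          rintro V' V'' v ⟨i, x, hx⟩ w
          refine ⟨i, (hs J i.1.1).obj.map w.op x, ?_⟩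
          have n := ConcreteCategory.congr_hom ((hm J i.1.2).hom.naturality w.op) x
          refine n.trans ?_
          refine (congrArg ((hs J W).obj.map w.op) hx).trans ?_
          have m := ConcreteCategory.congr_hom ((hs J W).obj.map_comp v.op w.op) s
          exact m.symm }
    refine ⟨R, ?_, fun V' v hv => hv⟩
    obtain ⟨T, hT, h⟩ := exists_el s
    refine J.transitive hT _ fun V' v hv => ?_
    obtain ⟨x, hx⟩ := h v hv
    refine J.transitive (J.pullback_stable x hS) _ fun V'' v' hv' => ?_
    obtain ⟨κ, Yk, g, hY, hYB⟩ := hB V''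
    refine J.superset_covering ?_ hY
    rw [Sieve.ofArrows, Sieve.generate_le_iff]
    rintro Z _ ⟨k⟩
    have hmem : S (g k ≫ v' ≫ x) := S.downward_closed hv' _
    refine ⟨⟨⟨Yk k, g k ≫ v' ≫ x⟩, hYB k, hmem⟩, el J (𝟙 _), ?_⟩
    rw [hm_el, Category.id_comp]
    have e1 : (hs J W).obj.map ((g k ≫ v') ≫ v).op s = (hs J W).obj.map (g k ≫ v').op (el J x) := by
      rw [hx]
      exact ConcreteCategory.congr_hom ((hs J W).obj.map_comp v.op (g k ≫ v').op) s
    rw [map_el, Category.assoc (g k) v' x] at e1
    exact e1.symm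
  obtain ⟨t, ht⟩ := hW I _ _ hI
  refine ⟨{i : I // i ∈ t}, Finite.of_fintype _, fun i => i.1.1.1, fun i => i.1.1.2, fun i => i.1.2.1,
    fun i => i.1.2.2, ?_⟩
  obtain ⟨S', hS', h⟩ := ht W (el J (𝟙 W))
  refine J.transitive hS' _ fun V g hg => ?_
  obtain ⟨i, x, hx⟩ := h V g hg
  rw [map_el, Category.comp_id] at hx
  obtain ⟨T, hT, hT'⟩ := exists_el x
  refine J.transitive hT _ fun V' v hv => ?_
  obtain ⟨y, hy⟩ := hT' v hv
  have e : el J (y ≫ i.1.1.2) = el J (v ≫ g) := by
    rw [← hm_el, hy, ← map_el, ← hx]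
    exact ConcreteCategory.congr_hom ((hm J i.1.1.2).hom.naturality v.op) x
  obtain ⟨T', hT1, hT2⟩ := eq_locally _ _ e
  refine J.superset_covering ?_ hT1
  intro V'' w hw
  change Sieve.ofArrows _ _ ((w ≫ v) ≫ g)
  rw [Category.assoc, ← hT2 w hw, ← Category.assoc]
  exact Sieve.downward_closed _ (Sieve.ofArrows_mk _ _ i) _

end K296.Qc
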