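import Groth.Prelude.Def_ModSite
import Groth.Agent.ModSite.K296.FreeOn
import Mathlib.Algebra.Category.ModuleCat.Descent
import Mathlib.Algebra.Category.ModuleCat.Presheaf.Colimits
import Mathlib.Algebra.Category.ModuleCat.Sheaf.Limits

/-!
# Sheaves of modules for a chaotic topology: sections preserve colimits, base change maps

`J` is a topology whose only covering sieves are the maximal ones.
-/

set_option autoImplicit false

universe u

open CategoryTheory CategoryTheory.Limits Opposite

namespace K296.Chaotic

open ModSite K296.FreeOn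

variable {C : Type u} [SmallCategory C] {J : GrothendieckTopology C}

theorem isSheaf_of_chaotic (hJ : ∀ (X : C) (S : Sieve X), S ∈ J X → S = ⊤) {A : Type*} [Category A]
    (P : Cᵒᵖ ⥤ A) : Presheaf.IsSheaf J P := by
  have h : J = ⊥ := by
    apply le_antisymm _ bot_le
    intro X S hS
    rw [hJ X S hS]
    exact GrothendieckTopology.top_mem _ _
  subst h
  exact Presheaf.isSheaf_bot P

section RR

variable (hJ : ∀ (X : C) (S : Sieve X), S ∈ J X → S = ⊤) (R : Sheaf J RingCat.{u})

include hJ in
theorem isEquivalence_forget : (SheafOfModules.forget.{u} R).IsEquivalence where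
  faithful := inferInstance
  full := inferInstance
  essSurj := ⟨fun P => ⟨⟨P, isSheaf_of_chaotic hJ _⟩, ⟨Iso.refl _⟩⟩⟩

include hJ in
theorem preservesColimits_evaluation (X : Cᵒᵖ) :
    PreservesColimitsOfSize.{u, u} (SheafOfModules.evaluation.{u} R X) := by
  have := isEquivalence_forget hJ R
  exact inferInstanceAs (PreservesColimitsOfSize.{u, u}
    (SheafOfModules.forget.{u} R ⋙ PresheafOfModules.evaluation _ X))

include hJ in
theorem preservesFiniteColimits_evaluation (X : Cᵒᵖ) :
    PreservesFiniteColimits (SheafOfModules.evaluation.{u} R X) := by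
  have := preservesColimits_evaluation hJ R X
  exact PreservesColimitsOfSize.preservesFiniteColimits.{u, u} _

end RR

variable (O : Sheaf J CommRingCat.{u})

/-- Sections over an object, as modules over the ring of sections. -/
noncomputable def ev (V : C) : Mod O ⥤ ModuleCat.{u} (O.obj.obj (op V)) :=
  SheafOfModules.evaluation.{u} (ringSh O) (op V)

/-- The base change map. -/
noncomputable def bc {U V : C} (g : U ⟶ V) (F : Mod O) :
    (ModuleCat.extendScalars (O.obj.map g.op).hom).obj ((ev O V).obj F) ⟶ (ev O U).obj F :=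
  (((ModuleCat.extendRestrictScalarsAdj (O.obj.map g.op).hom).homEquiv
          (F.val.obj (op V) : ModuleCat.{u} (O.obj.obj (op V))) (F.val.obj (op U) : ModuleCat.{u} (O.obj.obj (op U)))).symm
          (F.val.map g.op))

/-- The base change maps as a natural transformation. -/
noncomputable def bcNat {U V : C} (g : U ⟶ V) :
    ev O V ⋙ ModuleCat.extendScalars (O.obj.map g.op).hom ⟶ ev O U where
  app F := bc O g F
  naturality F G f := by
    have h1 := (ModuleCat.extendRestrictScalarsAdj (O.obj.map g.op).hom).homEquiv_naturality_left_symm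
      ((ev O V).map f) (G.val.map g.op)
    have h2 := (ModuleCat.extendRestrictScalarsAdj (O.obj.map g.op).hom).homEquiv_naturality_right_symm
      (F.val.map g.op) ((ev O U).map f)
    refine h1.symm.trans (Eq.trans ?_ h2)
    congr 1
    exact (f.val.naturality g.op).symm

lemma bc_tmul {U V : C} (g : U ⟶ V) (F : Mod O) (b : O.obj.obj (op U)) (m : sect F V) :
    letI := ((O.obj.map g.op).hom).toAlgebra
    (bc O g F).hom (TensorProduct.tmul (O.obj.obj (op V)) b m) = b • rs F g m := rfl


/-- All base change maps of `F` are isomorphisms. -/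
def BC (F : Mod O) : Prop := ∀ (U V : C) (g : U ⟶ V), IsIso (bc O g F)

variable {O}

theorem BC.of_iso {F G : Mod O} (h : BC O F) (e : F ≅ G) : BC O G := by
  intro U V g
  have := h U V g
  have h1 := (bcNat O g).naturality e.hom
  have h2 : (bcNat O g).app G = (ev O V ⋙ ModuleCat.extendScalars (O.obj.map g.op).hom).map e.inv ≫
      (bcNat O g).app F ≫ (ev O U).map e.hom := by
    rw [← h1, ← Category.assoc, ← Functor.map_comp, e.inv_hom_id, CategoryTheory.Functor.map_id, Category.id_comp]
  have h3 : IsIso ((bcNat O g).app F) := this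
  change IsIso ((bcNat O g).app G)
  rw [h2]
  infer_instance

/-- The structure sheaf. -/
theorem bc_unit : BC O (ModSite.unit O) := by
  intro U V g
  rw [ConcreteCategory.isIso_iff_bijective]
  let _ := ((O.obj.map g.op).hom).toAlgebra
  let e := TensorProduct.rid (O.obj.obj (op V)) (O.obj.obj (op U))
  have h : ∀ x : TensorProduct (O.obj.obj (op V)) (O.obj.obj (op U)) (O.obj.obj (op V)),
      ((bc O g (ModSite.unit O)).hom x : O.obj.obj (op U)) = e x := by
    intro x
    induction x using TensorProduct.induction_on with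
    | zero => exact (map_zero _).trans (map_zero e).symm
    | tmul b m =>
      rw [TensorProduct.rid_tmul]
      refine (bc_tmul O g (ModSite.unit O) b m).trans ?_
      change b * (O.obj.map g.op).hom m = (O.obj.map g.op).hom m * b
      exact mul_comm _ _
    | add a b ha hb => exact (map_add _ _ _).trans ((congrArg₂ (· + ·) ha hb).trans (map_add e _ _).symm)
  have h2 : (⇑(ConcreteCategory.hom (bc O g (ModSite.unit O))) : _ → _) = ⇑e := funext h
  rw [h2]
  exact e.bijective

theorem BC.of_isColimit (hJ : ∀ (X : C) (S : Sieve X), S ∈ J X → S = ⊤) {K : Type u} [SmallCategory K]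
    {D : K ⥤ Mod O} (hD : ∀ k, BC O (D.obj k)) {c : Cocone D} (hc : IsColimit c) : BC O c.pt := by
  intro U V g
  have h1 : PreservesColimitsOfSize.{u, u} (ev O U) := preservesColimits_evaluation hJ (ringSh O) (op U)
  have h2 : PreservesColimitsOfSize.{u, u} (ev O V) := preservesColimits_evaluation hJ (ringSh O) (op V)
  have h3 : PreservesColimitsOfSize.{u, u} (ModuleCat.extendScalars.{u, u, u} (O.obj.map g.op).hom) :=
    (ModuleCat.extendRestrictScalarsAdj (O.obj.map g.op).hom).leftAdjoint_preservesColimits
  have h4 : IsIso (Functor.whiskerLeft D (bcNat O g)) := by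
    rw [NatTrans.isIso_iff_isIso_app]
    intro k
    exact hD k U V g
  exact isIso_app_coconePt_of_preservesColimit D (bcNat O g) c hc

theorem BC.of_isColimit_fin (hJ : ∀ (X : C) (S : Sieve X), S ∈ J X → S = ⊤) {K : Type} [SmallCategory K]
    [FinCategory K] {D : K ⥤ Mod O} (hD : ∀ k, BC O (D.obj k)) {c : Cocone D} (hc : IsColimit c) : BC O c.pt := by
  intro U V g
  have h1 : PreservesFiniteColimits (ev O U) := preservesFiniteColimits_evaluation hJ (ringSh O) (op U)
  have h2 : PreservesFiniteColimits (ev O V) := preservesFiniteColimits_evaluation hJ (ringSh O) (op V)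
  have h3' : PreservesColimitsOfSize.{u, u} (ModuleCat.extendScalars.{u, u, u} (O.obj.map g.op).hom) :=
    (ModuleCat.extendRestrictScalarsAdj (O.obj.map g.op).hom).leftAdjoint_preservesColimits
  have h3 : PreservesFiniteColimits (ModuleCat.extendScalars.{u, u, u} (O.obj.map g.op).hom) :=
    PreservesColimitsOfSize.preservesFiniteColimits.{u, u} _
  have h4 : IsIso (Functor.whiskerLeft D (bcNat O g)) := by
    rw [NatTrans.isIso_iff_isIso_app]
    intro k
    exact hD k U V g
  exact isIso_app_coconePt_of_preservesColimit D (bcNat O g) c hc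

theorem bc_free (hJ : ∀ (X : C) (S : Sieve X), S ∈ J X → S = ⊤) (I : Type u) :
    BC O (SheafOfModules.free (R := ringSh O) I) :=
  BC.of_isColimit (D := Discrete.functor fun _ : I => ModSite.unit O) hJ (fun _ => bc_unit)
    (SheafOfModules.isColimitFreeCofan (R := ringSh O) I)

theorem bc_cokernel (hJ : ∀ (X : C) (S : Sieve X), S ∈ J X → S = ⊤) {F G : Mod O} (f : F ⟶ G) (hF : BC O F)
    (hG : BC O G) : BC O (cokernel f) := by
  refine BC.of_isColimit_fin hJ (D := parallelPair f 0) ?_ (colimit.isColimit _)
  rintro (_ | _)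
  · exact hF
  · exact hG

theorem BC.of_presentation (hJ : ∀ (X : C) (S : Sieve X), S ∈ J X → S = ⊤) {F : Mod O}
    (P : SheafOfModules.Presentation F) : BC O F := by
  have h := P.isColimit
  refine (bc_cokernel hJ ((SheafOfModules.freeHomEquiv _).symm P.relations.s ≫ (kernel.ι P.generators.π))
    (bc_free hJ _) (bc_free hJ _)).of_iso ?_
  exact IsColimit.coconePointUniqueUpToIso (cokernelIsCokernel _) h

/-! ### Presentations over a site with a terminal object -/

section Terminal

variable (hJ : ∀ (X : C) (S : Sieve X), S ∈ J X → S = ⊤) {T : C} (hT : IsTerminal T)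

/-- Global sections are sections over the terminal object. -/
noncomputable def secT (M : Mod O) (m : sect M T) : M.sections :=
  M.val.sectionsMk (fun X => M.val.map (hT.from X.unop).op m) (by
    intro X Y f
    rw [← PresheafOfModules.map_comp_apply]
    apply PresheafOfModules.congr_map_apply
    apply Quiver.Hom.unop_inj
    exact hT.hom_ext _ _)

/-- The canonical map from a free module. -/
noncomputable def fr (M : Mod O) : SheafOfModules.free (R := ringSh O) (sect M T) ⟶ M :=
  M.freeHomEquiv.symm (fun m => secT hT M m)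

lemma surjective_fr (M : Mod O) : Function.Surjective (ap (fr hT M) T) := by
  intro m
  let e : sect (SheafOfModules.free (R := ringSh O) (sect M T)) T :=
    (SheafOfModules.ιFree (R := ringSh O) m).val.app (op T) (1 : O.obj.obj (op T))
  refine ⟨e, ?_⟩
  have h1 : SheafOfModules.ιFree (R := ringSh O) m ≫ fr hT M =
      (SheafOfModules.unitHomEquiv M).symm (secT hT M m) := by
    rw [← SheafOfModules.unitHomEquiv_symm_freeHomEquiv_apply, fr, Equiv.apply_symm_apply]
  have h2 := congrArg (fun t => ((SheafOfModules.unitHomEquiv M) t).1 (op T)) h1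
  rw [Equiv.apply_symm_apply] at h2
  refine h2.trans ?_
  change (M.val.map (hT.from T).op).hom m = m
  rw [hT.hom_ext (hT.from T) (𝟙 T)]
  exact rs_id M m

theorem isIso_of_ap_bijective {F G : Mod O} (f : F ⟶ G) (h : ∀ V, Function.Bijective (ap f V)) : IsIso f := by
  have h1 : Mono f := (mono_iff f).2 fun V s hs => (h V).1 (hs.trans (map_zero _).symm)
  have h2 : Epi f := (epi_iff f).2 fun V t => ⟨⊤, J.top_mem _, fun W g _ => (h W).2 _⟩
  exact isIso_of_mono_of_epi f

include hJ hT in
theorem nonempty_presentation {M : Mod O} (hM : BC O M) : Nonempty M.Presentation := by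
  let π := fr hT M
  let ρ := fr hT (kernel π)
  let f := ρ ≫ kernel.ι π
  have hf : f ≫ π = 0 := by rw [Category.assoc, kernel.condition, comp_zero]
  let c : cokernel f ⟶ M := cokernel.desc f π hf
  have hc : cokernel.π f ≫ c = π := cokernel.π_desc _ _ _
  have hG : BC O (cokernel f) := bc_cokernel hJ f (bc_free hJ _) (bc_free hJ _)
  have hTc : Function.Bijective (ap c T) := by
    refine ⟨?_, ?_⟩
    · rw [injective_iff_map_eq_zero]
      intro y hy
      obtain ⟨S, hS, hS'⟩ := (epi_iff (cokernel.π f)).1 inferInstance T y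
      rw [hJ T S hS] at hS'
      obtain ⟨x, hx⟩ := hS' (𝟙 T) trivial
      rw [rs_id] at hx
      have h1 : ap π T x = 0 := by rw [← hc, ap_comp, hx, hy]
      obtain ⟨k, hk⟩ := exists_kernel π T x h1
      obtain ⟨z, hz⟩ := surjective_fr hT (kernel π) k
      rw [← hx, ← hk, ← hz, ← ap_comp, ← ap_comp]
      change ap (ρ ≫ kernel.ι π ≫ cokernel.π f) T z = 0
      have h2 : ρ ≫ kernel.ι π ≫ cokernel.π f = 0 := by rw [← Category.assoc]; exact cokernel.condition f
      rw [h2, ap_zero']
    · intro m
      obtain ⟨x, hx⟩ := surjective_fr hT M m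
      refine ⟨ap (cokernel.π f) T x, ?_⟩
      rw [← ap_comp, hc]
      exact hx
  have hiso : ∀ V, Function.Bijective (ap c V) := by
    intro V
    let g := hT.from V
    have h1 := (bcNat O g).naturality c
    have h2 : IsIso ((ev O T).map c) := by
      rw [ConcreteCategory.isIso_iff_bijective]
      exact hTc
    have h3 : IsIso ((bcNat O g).app (cokernel f)) := hG _ _ g
    have h4 : IsIso ((bcNat O g).app M) := hM _ _ g
    have h5 : IsIso ((ev O T ⋙ ModuleCat.extendScalars (O.obj.map g.op).hom).map c) :=
      inferInstanceAs (IsIso ((ModuleCat.extendScalars (O.obj.map g.op).hom).map ((ev O T).map c)))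
    have h6 : IsIso ((bcNat O g).app (cokernel f) ≫ (ev O V).map c) := by
      rw [← h1]
      infer_instance
    have h7 : IsIso ((ev O V).map c) := IsIso.of_isIso_comp_left ((bcNat O g).app (cokernel f)) _
    rw [ConcreteCategory.isIso_iff_bijective] at h7
    exact h7
  have := isIso_of_ap_bijective c hiso
  exact ⟨(SheafOfModules.presentationOfIsCokernelFree f (cokernel.π f) (cokernel.condition f)
    (cokernelIsCokernel f)).ofIsIso c⟩

end Terminal

/-! ### Restriction to slices -/

theorem over_chaotic (hJ : ∀ (X : C) (S : Sieve X), S ∈ J X → S = ⊤) (X : C) :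
    ∀ (Y : Over X) (S : Sieve Y), S ∈ J.over X Y → S = ⊤ := by
  intro Y S hS
  rw [GrothendieckTopology.mem_over_iff] at hS
  have := hJ _ _ hS
  rw [← (Sieve.overEquiv Y).symm_apply_apply S, this]
  exact map_top (Sieve.overEquiv Y).symm

theorem BC.restr {F : Mod O} (hF : BC O F) (X : C) : BC (O.over X) ((restr O X).obj F) :=
  fun U V g => hF U.left V.left g.left

theorem bc_of_restr {F : Mod O} {X U V : C} (a : V ⟶ X) (g : U ⟶ V)
    (h : BC (O.over X) ((ModSite.restr O X).obj F)) : IsIso (bc O g F) :=
  h (Over.mk (g ≫ a)) (Over.mk a) (Over.homMk g)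

/-- Quasi-coherence data of a module with invertible base change maps. -/
noncomputable def quasicoherentData (hJ : ∀ (X : C) (S : Sieve X), S ∈ J X → S = ⊤) (F : Mod O)
    (hF : BC O F) : SheafOfModules.QuasicoherentData.{u} (R := ringSh O) F where
  I := C
  X := fun X => X
  coversTop := fun Y => J.superset_covering (fun Z h _ => by exact ⟨Y, ⟨h⟩⟩) (J.top_mem _)
  presentation := fun X =>
      (nonempty_presentation (over_chaotic hJ X) (Over.mkIdTerminal (X := X)) (hF.restr X)).some

/-- Quasi-coherent modules for a chaotic topology. -/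
theorem isQuasicoherent_iff (hJ : ∀ (X : C) (S : Sieve X), S ∈ J X → S = ⊤) (F : Mod O) :
    SheafOfModules.IsQuasicoherent (R := ringSh O) F ↔ BC O F := by
  constructor
  · rintro ⟨⟨q⟩⟩ U V g
    have h1 := hJ _ _ (q.coversTop V)
    have h2 : Sieve.ofObjects q.X V (𝟙 V) := by rw [h1]; trivial
    obtain ⟨i, ⟨a⟩⟩ := (Sieve.mem_ofObjects_iff ..).mp h2
    exact bc_of_restr a g (BC.of_presentation (over_chaotic hJ _) (q.presentation i))
  · intro hF
    exact (quasicoherentData hJ F hF).isQuasicoherent

end K296.Chaotic
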