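import Groth.Agent.ModSite.K296.Chaotic

/-!
# Quasi-coherent modules for a chaotic topology with flat restriction maps
-/

set_option autoImplicit false

universe u

open CategoryTheory CategoryTheory.Limits Opposite

namespace K296.Chaotic

open ModSite K296.FreeOn

/-- A natural transformation between functors preserving a limit is invertible at the limit if it is
invertible on the diagram. -/
theorem isIso_app_conePt {C D J : Type*} [Category* C] [Category* D] [Category* J] (K : J ⥤ C)
    {L L' : C ⥤ D} (α : L ⟶ L') [IsIso (Functor.whiskerLeft K α)] (c : Cone K) (hc : IsLimit c)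
    [PreservesLimit K L] [PreservesLimit K L'] : IsIso (α.app c.pt) := by
  let e := IsLimit.conePointsIsoOfNatIso
    (isLimitOfPreserves L hc) (isLimitOfPreserves L' hc) (asIso (Functor.whiskerLeft K α))
  have h : α.app c.pt = e.hom := by
    apply (isLimitOfPreserves L' hc).hom_ext
    intro j
    have h1 : e.hom ≫ (L'.mapCone c).π.app j = (L.mapCone c).π.app j ≫ α.app (K.obj j) :=
      IsLimit.conePointsIsoOfNatIso_hom_comp _ _ _ j
    rw [h1]
    exact (α.naturality (c.π.app j)).symm
  rw [h]
  infer_instance

variable {C : Type u} [SmallCategory C] {J : GrothendieckTopology C}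
variable {O : Sheaf J CommRingCat.{u}}

theorem BC.kernel (hO : ∀ (U V : C) (g : U ⟶ V), (O.obj.map g.op).hom.Flat) {F G : Mod O} (f : F ⟶ G)
    (hF : BC O F) (hG : BC O G) : BC O (kernel f) := by
  intro U V g
  have h1 : PreservesFiniteLimits (ev O U) :=
    inferInstanceAs (PreservesFiniteLimits (SheafOfModules.evaluation.{u} (ringSh O) (op U)))
  have h2 : PreservesFiniteLimits (ev O V) :=
    inferInstanceAs (PreservesFiniteLimits (SheafOfModules.evaluation.{u} (ringSh O) (op V)))
  have h3 : PreservesFiniteLimits (ModuleCat.extendScalars.{u, u, u} (O.obj.map g.op).hom) :=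
    ModuleCat.preservesFiniteLimits_extendScalars_of_flat (hO U V g)
  have h4 : IsIso (Functor.whiskerLeft (parallelPair f 0) (bcNat O g)) := by
    rw [NatTrans.isIso_iff_isIso_app]
    rintro (_ | _)
    · exact hF U V g
    · exact hG U V g
  exact isIso_app_conePt (parallelPair f 0) (bcNat O g) (limit.cone _) (limit.isLimit _)

theorem BC.extension (hJ : ∀ (X : C) (S : Sieve X), S ∈ J X → S = ⊤)
    (hO : ∀ (U V : C) (g : U ⟶ V), (O.obj.map g.op).hom.Flat) (S : ShortComplex (Mod O))
    (hS : S.ShortExact) (h₁ : BC O S.X₁) (h₃ : BC O S.X₃) : BC O S.X₂ := by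
  intro U V g
  have e1 : PreservesFiniteLimits (ev O U) :=
    inferInstanceAs (PreservesFiniteLimits (SheafOfModules.evaluation.{u} (ringSh O) (op U)))
  have e2 : PreservesFiniteLimits (ev O V) :=
    inferInstanceAs (PreservesFiniteLimits (SheafOfModules.evaluation.{u} (ringSh O) (op V)))
  have e3 : PreservesFiniteLimits (ModuleCat.extendScalars.{u, u, u} (O.obj.map g.op).hom) :=
    ModuleCat.preservesFiniteLimits_extendScalars_of_flat (hO U V g)
  have c1 : PreservesFiniteColimits (ev O U) := preservesFiniteColimits_evaluation hJ (ringSh O) (op U)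
  have c2 : PreservesFiniteColimits (ev O V) := preservesFiniteColimits_evaluation hJ (ringSh O) (op V)
  have c3' : PreservesColimitsOfSize.{u, u} (ModuleCat.extendScalars.{u, u, u} (O.obj.map g.op).hom) :=
    (ModuleCat.extendRestrictScalarsAdj (O.obj.map g.op).hom).leftAdjoint_preservesColimits
  have c3 : PreservesFiniteColimits (ModuleCat.extendScalars.{u, u, u} (O.obj.map g.op).hom) :=
    PreservesColimitsOfSize.preservesFiniteColimits.{u, u} _
  have z1 : (ev O U).PreservesZeroMorphisms := by
    exact Functor.preservesZeroMorphisms_of_preserves_initial_object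
  have z2 : (ev O V ⋙ ModuleCat.extendScalars.{u, u, u} (O.obj.map g.op).hom).PreservesZeroMorphisms := by
    exact Functor.preservesZeroMorphisms_of_preserves_initial_object
  have s1 : (S.map (ev O V ⋙ ModuleCat.extendScalars.{u, u, u} (O.obj.map g.op).hom)).ShortExact :=
    hS.map_of_exact _
  have s2 : (S.map (ev O U)).ShortExact := hS.map_of_exact _
  exact ShortComplex.isIso₂_of_shortExact_of_isIso₁₃' (S.mapNatTrans (bcNat O g)) s1 s2 (h₁ U V g) (h₃ U V g)

end K296.Chaotic
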