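import Mathlib.CategoryTheory.Abelian.Refinements
import Mathlib.CategoryTheory.Abelian.Exact
import Mathlib.CategoryTheory.Preadditive.Biproducts

/-!
# Objects of finite presentation relative to a class of objects with a lifting property

`A` is an abelian category, `P` a class of objects closed under binary biproducts, such that maps from members
of `P` lift through epimorphisms after an epimorphism from a member of `P` (`Lifts P`).
* `FT P K`: `K` is a quotient of a member of `P`;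
* `FP P F`: `F` is the cokernel of a map between members of `P`;
* `FT.of_exact`, `FP.of_exact_right` (cokernels), `FP.kernel` and `FP.extension`.
-/

set_option autoImplicit false

universe v u

open CategoryTheory CategoryTheory.Limits

namespace K296.FPAbs

variable {A : Type u} [Category.{v} A] [Abelian A] (P : A → Prop)

/-- Maps from members of `P` lift through epimorphisms after an epimorphism from a member of `P`. -/
def Lifts : Prop :=
  ∀ (X : A), P X → ∀ (G F : A) (p : G ⟶ F) (f : X ⟶ F), Epi p →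
    ∃ (X' : A) (q : X' ⟶ X) (g : X' ⟶ G), P X' ∧ Epi q ∧ g ≫ p = q ≫ f

/-- `P` is closed under binary biproducts. -/
def Sums : Prop := ∀ X Y : A, P X → P Y → P (X ⊞ Y)

/-- Quotients of members of `P`. -/
def FT (K : A) : Prop := ∃ (X : A) (p : X ⟶ K), P X ∧ Epi p

/-- Cokernels of maps between members of `P`. -/
def FP (F : A) : Prop :=
  ∃ (Z X : A) (r : Z ⟶ X) (p : X ⟶ F) (w : r ≫ p = 0), P Z ∧ P X ∧ Epi p ∧ (ShortComplex.mk r p w).Exact

variable {P}

theorem FP.ft {F : A} (h : FP P F) : FT P F := by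
  obtain ⟨Z, X, r, p, w, hZ, hX, hp, hex⟩ := h
  exact ⟨X, p, hX, hp⟩

theorem FT.of_epi {K K' : A} (h : FT P K) (f : K ⟶ K') [Epi f] : FT P K' := by
  obtain ⟨X, p, hX, hp⟩ := h
  exact ⟨X, p ≫ f, hX, epi_comp _ _⟩

theorem FP.of_iso {F F' : A} (h : FP P F) (e : F ≅ F') : FP P F' := by
  obtain ⟨Z, X, r, p, w, hZ, hX, hp, hex⟩ := h
  refine ⟨Z, X, r, p ≫ e.hom, by rw [reassoc_of% w, zero_comp], hZ, hX, epi_comp _ _, ?_⟩
  refine ShortComplex.exact_of_iso (S₁ := ShortComplex.mk r p w)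
    (ShortComplex.isoMk (Iso.refl _) (Iso.refl _) e (by simp) (by simp)) hex

/-- `K` with a map to a member of the class and exactness gives a presentation. -/
theorem FP.of_ft {F X K : A} (k : K ⟶ X) (p : X ⟶ F) (w : k ≫ p = 0) (hp : Epi p)
    (hex : (ShortComplex.mk k p w).Exact) (hX : P X) (hK : FT P K) : FP P F := by
  obtain ⟨Z, e, hZ, he⟩ := hK
  refine ⟨Z, X, e ≫ k, p, by rw [Category.assoc, w, comp_zero], hZ, hX, hp, ?_⟩
  rw [ShortComplex.exact_iff_exact_up_to_refinements]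
  intro T x hx
  obtain ⟨T₁, π₁, h₁, y, hy⟩ := hex.exact_up_to_refinements x hx
  obtain ⟨T₂, π₂, h₂, z, hz⟩ := surjective_up_to_refinements_of_epi e y
  refine ⟨T₂, π₂ ≫ π₁, epi_comp _ _, z, ?_⟩
  dsimp at hy ⊢
  rw [Category.assoc, hy, reassoc_of% hz]

/-- Extensions of quotients of members of `P`. -/
theorem FT.of_exact (hl : Lifts P) (hs : Sums P) {S : ShortComplex A} (hS : S.Exact) (hg : Epi S.g)
    (h₁ : FT P S.X₁) (h₃ : FT P S.X₃) : FT P S.X₂ := by
  obtain ⟨X₁, e₁, hX₁, he₁⟩ := h₁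
  obtain ⟨X₃, e₃, hX₃, he₃⟩ := h₃
  obtain ⟨X', q, g, hX', hq, hqg⟩ := hl X₃ hX₃ _ _ S.g e₃ hg
  refine ⟨X₁ ⊞ X', biprod.desc (e₁ ≫ S.f) g, hs _ _ hX₁ hX', ?_⟩
  rw [epi_iff_surjective_up_to_refinements]
  intro T y
  have := epi_comp q e₃
  obtain ⟨T₁, π₁, h₁, z, hz⟩ := surjective_up_to_refinements_of_epi (q ≫ e₃) (y ≫ S.g)
  have h0 : (π₁ ≫ y - z ≫ g) ≫ S.g = 0 := by
    rw [Preadditive.sub_comp, Category.assoc, Category.assoc, hz, hqg, sub_self]
  obtain ⟨T₂, π₂, h₂, w, hw⟩ := hS.exact_up_to_refinements _ h0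
  obtain ⟨T₃, π₃, h₃, v, hv⟩ := surjective_up_to_refinements_of_epi e₁ w
  refine ⟨T₃, π₃ ≫ π₂ ≫ π₁, epi_comp' h₃ (epi_comp' h₂ h₁), biprod.lift v (π₃ ≫ π₂ ≫ z), ?_⟩
  rw [biprod.lift_desc, ← Category.assoc v, ← hv]
  simp only [Category.assoc]
  rw [← hw]
  simp only [Preadditive.comp_sub, Category.assoc]
  abel

/-- Cokernels of maps from quotients of members of `P` to objects of finite presentation. -/
theorem FP.of_exact_right (hl : Lifts P) (hs : Sums P) {S : ShortComplex A} (hS : S.Exact) (hg : Epi S.g)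
    (h₁ : FT P S.X₁) (h₂ : FP P S.X₂) : FP P S.X₃ := by
  obtain ⟨Z, X, r, p, w, hZ, hX, hp, hex⟩ := h₂
  obtain ⟨XK, e, hXK, he⟩ := h₁
  obtain ⟨X', q, l, hX', hq, hql⟩ := hl XK hXK _ _ p (e ≫ S.f) hp
  have w' : biprod.desc r l ≫ p ≫ S.g = 0 := by
    apply biprod.hom_ext'
    · rw [biprod.inl_desc_assoc, reassoc_of% w, zero_comp, comp_zero]
    · rw [biprod.inr_desc_assoc, reassoc_of% hql, S.zero, comp_zero, comp_zero, comp_zero]
  refine ⟨Z ⊞ X', X, biprod.desc r l, p ≫ S.g, w', hs _ _ hZ hX', hX, epi_comp' hp hg, ?_⟩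
  rw [ShortComplex.exact_iff_exact_up_to_refinements]
  intro T x hx
  dsimp at hx x ⊢
  obtain ⟨T₁, π₁, h₁, y, hy⟩ := hS.exact_up_to_refinements (x ≫ p) (by rw [Category.assoc, hx])
  have := epi_comp q e
  obtain ⟨T₂, π₂, h₂, z, hz⟩ := surjective_up_to_refinements_of_epi (q ≫ e) y
  have h0 : (π₂ ≫ π₁ ≫ x - z ≫ l) ≫ p = 0 := by
    rw [Preadditive.sub_comp, Category.assoc, Category.assoc, Category.assoc, hy, reassoc_of% hz, hql,
      sub_self]
  obtain ⟨T₃, π₃, h₃, v, hv⟩ := hex.exact_up_to_refinements _ h0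
  dsimp at v hv
  refine ⟨T₃, π₃ ≫ π₂ ≫ π₁, epi_comp' h₃ (epi_comp' h₂ h₁), biprod.lift v (π₃ ≫ z), ?_⟩
  rw [biprod.lift_desc, ← hv]
  simp only [Category.assoc, Preadditive.comp_sub]
  abel

/-- If kernels of maps between members of `P` are of finite presentation, so are kernels of maps between objects of
finite presentation. -/
theorem FP.kernel (hl : Lifts P) (hs : Sums P)
    (hker : ∀ (X Y : A) (φ : X ⟶ Y), P X → P Y → FP P (kernel φ))
    {F G : A} (hF : FP P F) (hG : FP P G) (α : F ⟶ G) : FP P (kernel α) := by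
  obtain ⟨ZF, X, rF, pF, wF, hZF, hX, hpF, hexF⟩ := hF
  obtain ⟨ZG, Y, rG, pG, wG, hZG, hY, hpG, hexG⟩ := hG
  obtain ⟨X', q, l, hX', hq, hql⟩ := hl X hX _ _ pG (pF ≫ α) hpG
  -- `K` is the kernel of `X' ⟶ G`
  let β : X' ⟶ G := q ≫ pF ≫ α
  let γ : X' ⊞ ZG ⟶ Y := biprod.desc l (-rG)
  have hγ : FP P (Limits.kernel γ) := hker _ _ γ (hs _ _ hX' hZG) hY
  -- `a : kernel γ ⟶ kernel β`
  have hwa : (Limits.kernel.ι γ ≫ biprod.fst) ≫ β = 0 := by
    have h1 : Limits.kernel.ι γ ≫ γ ≫ pG = 0 := by rw [← Category.assoc, kernel.condition, zero_comp]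
    have h2 : γ ≫ pG = biprod.fst ≫ β := by
      apply biprod.hom_ext'
      · rw [biprod.inl_desc_assoc, biprod.inl_fst_assoc, hql]
      · rw [biprod.inr_desc_assoc, biprod.inr_fst_assoc, zero_comp, Preadditive.neg_comp, wG, neg_zero]
    rw [Category.assoc, ← h2, h1]
  let a : Limits.kernel γ ⟶ Limits.kernel β := kernel.lift β (Limits.kernel.ι γ ≫ biprod.fst) hwa
  have ha : a ≫ Limits.kernel.ι β = Limits.kernel.ι γ ≫ biprod.fst := kernel.lift_ι _ _ _
  have hβ : ∀ {T : A} (x : T ⟶ X'), x ≫ β = 0 → ∃ (T' : A) (π : T' ⟶ T) (_ : Epi π) (z : T' ⟶ ZG),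
      π ≫ x ≫ l = z ≫ rG := by
    intro T x hx
    obtain ⟨T₁, π₁, h₁, z, hz⟩ := hexG.exact_up_to_refinements (x ≫ l) (by
      dsimp
      rw [Category.assoc, hql]
      exact hx)
    exact ⟨T₁, π₁, h₁, z, hz⟩
  have epi_a : Epi a := by
    rw [epi_iff_surjective_up_to_refinements]
    intro T y
    obtain ⟨T₁, π₁, h₁, z, hz⟩ := hβ (y ≫ Limits.kernel.ι β) (by
      rw [Category.assoc, kernel.condition, comp_zero])
    refine ⟨T₁, π₁, h₁, kernel.lift γ (biprod.lift (π₁ ≫ y ≫ Limits.kernel.ι β) z) ?_, ?_⟩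
    · rw [biprod.lift_desc, Preadditive.comp_neg, ← hz]
      simp only [Category.assoc]
      exact add_neg_cancel _
    · rw [← cancel_mono (Limits.kernel.ι β), Category.assoc, Category.assoc, ha, kernel.lift_ι_assoc,
        biprod.lift_fst]
  -- kernel of `a`
  have hwb : (Limits.kernel.ι rG ≫ biprod.inr) ≫ γ = 0 := by
    rw [Category.assoc, biprod.inr_desc, Preadditive.comp_neg, kernel.condition, neg_zero]
  let b : Limits.kernel rG ⟶ Limits.kernel γ := kernel.lift γ (Limits.kernel.ι rG ≫ biprod.inr) hwb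
  have hb : b ≫ Limits.kernel.ι γ = Limits.kernel.ι rG ≫ biprod.inr := kernel.lift_ι _ _ _
  have hba : b ≫ a = 0 := by
    rw [← cancel_mono (Limits.kernel.ι β), Category.assoc, ha, reassoc_of% hb, biprod.inr_fst, comp_zero,
      zero_comp]
  have hex1 : (ShortComplex.mk b a hba).Exact := by
    rw [ShortComplex.exact_iff_exact_up_to_refinements]
    intro T x hx
    dsimp at x hx ⊢
    have h1 : (x ≫ Limits.kernel.ι γ) ≫ biprod.fst = 0 := by
      rw [Category.assoc, ← ha, ← Category.assoc, hx, zero_comp]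
    have h2 : (x ≫ Limits.kernel.ι γ) = ((x ≫ Limits.kernel.ι γ) ≫ biprod.snd) ≫ biprod.inr := by
      apply biprod.hom_ext
      · rw [h1, Category.assoc, biprod.inr_fst, comp_zero]
      · rw [Category.assoc _ biprod.inr, biprod.inr_snd, Category.comp_id]
    have h3 : ((x ≫ Limits.kernel.ι γ) ≫ biprod.snd) ≫ rG = 0 := by
      have h4 : x ≫ Limits.kernel.ι γ ≫ γ = 0 := by rw [kernel.condition, comp_zero]
      rw [← Category.assoc, h2, Category.assoc, biprod.inr_desc, Preadditive.comp_neg, neg_eq_zero] at h4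
      exact h4
    refine ⟨T, 𝟙 T, inferInstance, kernel.lift rG _ h3, ?_⟩
    rw [← cancel_mono (Limits.kernel.ι γ), Category.id_comp, Category.assoc, hb, kernel.lift_ι_assoc]
    exact h2
  have hβFP : FP P (Limits.kernel β) :=
    FP.of_exact_right hl hs hex1 epi_a (hker _ _ rG hZG hY).ft hγ
  -- `kernel β ⟶ kernel α`
  have hwc : (Limits.kernel.ι β ≫ q ≫ pF) ≫ α = 0 := by
    have := kernel.condition β
    simpa only [Category.assoc] using this
  let c : Limits.kernel β ⟶ Limits.kernel α := kernel.lift α (Limits.kernel.ι β ≫ q ≫ pF) hwc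
  have hc : c ≫ Limits.kernel.ι α = Limits.kernel.ι β ≫ q ≫ pF := kernel.lift_ι _ _ _
  have hqp : Epi (q ≫ pF) := epi_comp' hq hpF
  have epi_c : Epi c := by
    rw [epi_iff_surjective_up_to_refinements]
    intro T y
    obtain ⟨T₁, π₁, h₁, x, hx⟩ := surjective_up_to_refinements_of_epi (q ≫ pF) (y ≫ Limits.kernel.ι α)
    refine ⟨T₁, π₁, h₁, kernel.lift β x ?_, ?_⟩
    · have h2 : x ≫ β = (x ≫ q ≫ pF) ≫ α := by simp only [Category.assoc, β]
      rw [h2, ← hx, Category.assoc, Category.assoc, kernel.condition, comp_zero, comp_zero]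
    · rw [← cancel_mono (Limits.kernel.ι α), Category.assoc, Category.assoc, hc, kernel.lift_ι_assoc, hx]
  -- `kernel (q ≫ pF) ⟶ kernel β`
  have hwd : Limits.kernel.ι (q ≫ pF) ≫ β = 0 := by
    have h := kernel.condition (q ≫ pF)
    change Limits.kernel.ι (q ≫ pF) ≫ q ≫ pF ≫ α = 0
    rw [← Category.assoc q, ← Category.assoc, h, zero_comp]
  let d : Limits.kernel (q ≫ pF) ⟶ Limits.kernel β := kernel.lift β (Limits.kernel.ι (q ≫ pF)) hwd
  have hd : d ≫ Limits.kernel.ι β = Limits.kernel.ι (q ≫ pF) := kernel.lift_ι _ _ _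
  have hdc : d ≫ c = 0 := by
    rw [← cancel_mono (Limits.kernel.ι α), Category.assoc, hc, reassoc_of% hd, kernel.condition, zero_comp]
  have hex2 : (ShortComplex.mk d c hdc).Exact := by
    rw [ShortComplex.exact_iff_exact_up_to_refinements]
    intro T x hx
    dsimp at x hx ⊢
    have h1 : (x ≫ Limits.kernel.ι β) ≫ q ≫ pF = 0 := by
      rw [Category.assoc, ← hc, ← Category.assoc, hx, zero_comp]
    refine ⟨T, 𝟙 T, inferInstance, kernel.lift (q ≫ pF) _ h1, ?_⟩
    rw [← cancel_mono (Limits.kernel.ι β), Category.id_comp, Category.assoc, hd, kernel.lift_ι]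
  refine FP.of_exact_right hl hs hex2 epi_c ?_ hβFP
  -- `kernel (q ≫ pF)` is an extension of `kernel pF` by `kernel q`
  have hwe : Limits.kernel.ι q ≫ q ≫ pF = 0 := by rw [kernel.condition_assoc, zero_comp]
  let e : Limits.kernel q ⟶ Limits.kernel (q ≫ pF) := kernel.lift (q ≫ pF) (Limits.kernel.ι q) hwe
  have he : e ≫ Limits.kernel.ι (q ≫ pF) = Limits.kernel.ι q := kernel.lift_ι _ _ _
  have hwf : (Limits.kernel.ι (q ≫ pF) ≫ q) ≫ pF = 0 := by
    rw [Category.assoc, kernel.condition]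
  let f : Limits.kernel (q ≫ pF) ⟶ Limits.kernel pF := kernel.lift pF (Limits.kernel.ι (q ≫ pF) ≫ q) hwf
  have hf : f ≫ Limits.kernel.ι pF = Limits.kernel.ι (q ≫ pF) ≫ q := kernel.lift_ι _ _ _
  have hef : e ≫ f = 0 := by
    rw [← cancel_mono (Limits.kernel.ι pF), Category.assoc, hf, reassoc_of% he, kernel.condition, zero_comp]
  have epi_f : Epi f := by
    rw [epi_iff_surjective_up_to_refinements]
    intro T y
    obtain ⟨T₁, π₁, h₁, x, hx⟩ := surjective_up_to_refinements_of_epi q (y ≫ Limits.kernel.ι pF)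
    refine ⟨T₁, π₁, h₁, kernel.lift (q ≫ pF) x ?_, ?_⟩
    · rw [← Category.assoc, ← hx, Category.assoc, Category.assoc, kernel.condition, comp_zero, comp_zero]
    · rw [← cancel_mono (Limits.kernel.ι pF), Category.assoc, Category.assoc, hf, kernel.lift_ι_assoc, hx]
  have hex3 : (ShortComplex.mk e f hef).Exact := by
    rw [ShortComplex.exact_iff_exact_up_to_refinements]
    intro T x hx
    dsimp at x hx ⊢
    have h1 : (x ≫ Limits.kernel.ι (q ≫ pF)) ≫ q = 0 := by
      rw [Category.assoc, ← hf, ← Category.assoc, hx, zero_comp]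
    refine ⟨T, 𝟙 T, inferInstance, kernel.lift q _ h1, ?_⟩
    rw [← cancel_mono (Limits.kernel.ι (q ≫ pF)), Category.id_comp, Category.assoc, he, kernel.lift_ι]
  refine FT.of_exact hl hs hex3 epi_f (hker _ _ q hX' hX).ft ?_
  -- `kernel pF` is a quotient of `ZF`
  refine ⟨ZF, kernel.lift pF rF wF, hZF, ?_⟩
  rw [epi_iff_surjective_up_to_refinements]
  intro T y
  obtain ⟨T₁, π₁, h₁, z, hz⟩ := hexF.exact_up_to_refinements (y ≫ Limits.kernel.ι pF) (by
    dsimp
    rw [Category.assoc, kernel.condition, comp_zero])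
  refine ⟨T₁, π₁, h₁, z, ?_⟩
  rw [← cancel_mono (Limits.kernel.ι pF), Category.assoc, Category.assoc, kernel.lift_ι]
  exact hz

end K296.FPAbs
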