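import Groth.Agent.ModSite.K296.FreeOn
import Groth.Agent.CohtopB.SheafColim

/-!
# Filtered colimits of sheaves of modules, locally elementwise

* `LocElem c`: sections of `c.pt` come locally from a stage; sections of a stage which die in `c.pt` die locally at
  a later stage;
* `locElem_of_isColimit` and `isColimit_of_locElem`.
-/

set_option autoImplicit false

universe u

open CategoryTheory CategoryTheory.Limits Opposite

namespace K296.Filt

open ModSite K296.FreeOn

variable {C : Type u} [SmallCategory C] {J : GrothendieckTopology C} {O : Sheaf J CommRingCat.{u}}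

/-- Local elementwise colimit property of a cocone of sheaves of modules. -/
structure LocElem {I : Type u} [SmallCategory I] {D : I ⥤ Mod O} (c : Cocone D) : Prop where
  surj : ∀ (U : C) (s : sect c.pt U), ∃ T ∈ J U, ∀ ⦃V : C⦄ (g : V ⟶ U), T g →
    ∃ (i : I) (y : sect (D.obj i) V), ap (c.ι.app i) V y = rs c.pt g s
  inj : ∀ (U : C) (i : I) (y : sect (D.obj i) U), ap (c.ι.app i) U y = 0 →
    ∃ T ∈ J U, ∀ ⦃V : C⦄ (g : V ⟶ U), T g → ∃ (j : I) (f : i ⟶ j), ap (D.map f) V (rs _ g y) = 0

theorem toAb_locElem {I : Type u} [SmallCategory I] [IsFiltered I] {D : I ⥤ Mod O} {c : Cocone D}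
    (hc : IsColimit c) : Groth.Agent.CohtopB.SheafColim.LocElem ((SheafOfModules.toSheaf (ringSh O)).mapCocone c) := by
  have := Ab.preservesColimitsOfShape_toSheaf (ringSh O) I
  exact Groth.Agent.CohtopB.SheafColim.locElem_of_isColimit (isColimitOfPreserves _ hc)

theorem locElem_of_isColimit {I : Type u} [SmallCategory I] [IsFiltered I] {D : I ⥤ Mod O} {c : Cocone D}
    (hc : IsColimit c) : LocElem c := by
  have h := toAb_locElem hc
  refine ⟨fun U s => ?_, fun U i y hy => ?_⟩
  · obtain ⟨T, hT, h'⟩ := h.surj U s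
    exact ⟨T, hT, fun V g hg => h' V g hg⟩
  · obtain ⟨T, hT, h'⟩ := h.inj U i y hy
    exact ⟨T, hT, fun V g hg => h' V g hg⟩

theorem isIso_of_mono_epi {F G : Mod O} (f : F ⟶ G) (h₁ : Mono f) (h₂ : Epi f) : IsIso f :=
  isIso_of_mono_of_epi f

theorem nonempty_isColimit_of_locElem {I : Type u} [SmallCategory I] [IsFiltered I] {D : I ⥤ Mod O}
    {c : Cocone D} (hc : LocElem c) : Nonempty (IsColimit c) := by
  have h := locElem_of_isColimit (colimit.isColimit D)
  let d : colimit D ⟶ c.pt := colimit.desc D c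
  have hd : ∀ i (V : C) (y : sect (D.obj i) V), ap d V (ap (colimit.ι D i) V y) = ap (c.ι.app i) V y := by
    intro i V y
    rw [← ap_comp, colimit.ι_desc]
  have h1 : Epi d := by
    rw [epi_iff]
    intro V t
    obtain ⟨T, hT, hT'⟩ := hc.surj V t
    refine ⟨T, hT, fun W g hg => ?_⟩
    obtain ⟨i, y, hy⟩ := hT' g hg
    exact ⟨ap (colimit.ι D i) W y, (hd _ _ _).trans hy⟩
  have h2 : Mono d := by
    rw [mono_iff]
    intro V s hs
    obtain ⟨T, hT, hT'⟩ := h.surj V s
    refine eq_zero_of_locally s T hT fun W g hg => ?_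
    obtain ⟨i, y, hy⟩ := hT' g hg
    change ap (colimit.ι D i) W y = rs _ g s at hy
    have hy0 : ap (c.ι.app i) W y = 0 := by
      rw [← hd, hy, ap_rs, hs, map_zero]
    obtain ⟨T', hT1, hT2⟩ := hc.inj W i y hy0
    rw [← hy]
    refine eq_zero_of_locally _ T' hT1 fun Z w hw => ?_
    obtain ⟨j, f, hf⟩ := hT2 w hw
    rw [← ap_rs, ← colimit.w D f, ap_comp, hf, map_zero]
  have h3 : IsIso ((colimit.isColimit D).desc c) := isIso_of_mono_epi d h2 h1
  exact ⟨IsColimit.ofPointIso (colimit.isColimit D)⟩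

end K296.Filt
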