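import Groth.Agent.ModSite.K296.FPFree
import Groth.Agent.ModSite.K296.Filt

/-!
# Every module is a filtered colimit of modules presented by finite sums of `freeOn O U`, `U ∈ B`
-/

set_option autoImplicit false

universe v u

open CategoryTheory CategoryTheory.Limits Opposite ZeroObject

namespace K296.FPAbs

variable {A : Type u} [Category.{v} A] [Abelian A] {P : A → Prop}

/-- Biproducts of objects of finite presentation. -/
theorem FP.biprod (hs : Sums P) {F G : A} (hF : FP P F) (hG : FP P G) : FP P (F ⊞ G) := by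
  obtain ⟨Z, X, r, p, w, hZ, hX, hp, hex⟩ := hF
  obtain ⟨Z', X', r', p', w', hZ', hX', hp', hex'⟩ := hG
  have w'' : biprod.map r r' ≫ biprod.map p p' = 0 := by
    apply biprod.hom_ext'
    · rw [biprod.inl_map_assoc, biprod.inl_map, reassoc_of% w, zero_comp, comp_zero]
    · rw [biprod.inr_map_assoc, biprod.inr_map, reassoc_of% w', zero_comp, comp_zero]
  refine ⟨Z ⊞ Z', X ⊞ X', biprod.map r r', biprod.map p p', w'', hs _ _ hZ hZ', hs _ _ hX hX', inferInstance, ?_⟩
  rw [ShortComplex.exact_iff_exact_up_to_refinements]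
  intro T x hx
  dsimp at x hx ⊢
  have h1 : (x ≫ biprod.fst) ≫ p = 0 := by
    rw [Category.assoc, ← biprod.map_fst p p', ← Category.assoc, hx, zero_comp]
  have h2 : (x ≫ biprod.snd) ≫ p' = 0 := by
    rw [Category.assoc, ← biprod.map_snd p p', ← Category.assoc, hx, zero_comp]
  obtain ⟨T₁, π₁, hπ₁, z, hz⟩ := hex.exact_up_to_refinements _ h1
  obtain ⟨T₂, π₂, hπ₂, z', hz'⟩ := hex'.exact_up_to_refinements (π₁ ≫ x ≫ biprod.snd) (by
    dsimp
    rw [Category.assoc, h2, comp_zero])
  refine ⟨T₂, π₂ ≫ π₁, epi_comp' hπ₂ hπ₁, biprod.lift (π₂ ≫ z) z', ?_⟩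
  dsimp at hz hz'
  apply biprod.hom_ext
  · rw [Category.assoc, Category.assoc, Category.assoc, biprod.map_fst, biprod.lift_fst_assoc, Category.assoc, ← hz]
  · rw [Category.assoc, Category.assoc, Category.assoc, biprod.map_snd, biprod.lift_snd_assoc, ← hz']

end K296.FPAbs

namespace K296.FPColim

open ModSite K296.FreeOn K296.FPAbs K296.FPFree

variable {C : Type u} [SmallCategory C] {J : GrothendieckTopology C} (O : Sheaf J CommRingCat.{u}) (B : Set C)
  (F : Mod O)

/-- Presentations of modules over `F`. -/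
structure Idx : Type u where
  m : ℕ
  n : ℕ
  V : Fin m → C
  U : Fin n → C
  ψ : (∐ fun j => ModSite.freeOn O (V j)) ⟶ ∐ fun i => ModSite.freeOn O (U i)
  hV : ∀ j, V j ∈ B
  hU : ∀ i, U i ∈ B
  f : cokernel ψ ⟶ F

variable {O B F}

/-- The associated object over `F`. -/
noncomputable abbrev Idx.toOver (l : Idx O B F) : Over F := Over.mk l.f

noncomputable instance : SmallCategory (Idx O B F) :=
  inferInstanceAs (Category (InducedCategory (Over F) Idx.toOver))

/-- The diagram. -/
noncomputable def toOver (O : Sheaf J CommRingCat.{u}) (B : Set C) (F : Mod O) : Idx O B F ⥤ Over F :=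
  inducedFunctor (D := Over F) (Idx.toOver (O := O) (B := B) (F := F))

instance : (toOver O B F).Full := InducedCategory.full (D := Over F) (Idx.toOver (O := O) (B := B) (F := F))
instance : (toOver O B F).Faithful := InducedCategory.faithful (D := Over F) (Idx.toOver (O := O) (B := B) (F := F))

lemma toOver_obj (l : Idx O B F) : (toOver O B F).obj l = Over.mk l.f := rfl

/-- Every object over `F` of finite presentation is isomorphic to one of the diagram. -/
theorem exists_iso {G : Mod O} (hG : FP (FS O B) G) (g : G ⟶ F) :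
    ∃ l : Idx O B F, Nonempty (Over.mk g ≅ (toOver O B F).obj l) := by
  rw [fp_iff] at hG
  obtain ⟨m, n, V, U, ψ, hV, hU, ⟨e⟩⟩ := hG
  refine ⟨⟨m, n, V, U, ψ, hV, hU, e.inv ≫ g⟩, ⟨?_⟩⟩
  rw [toOver_obj]
  exact Over.isoMk (f := Over.mk g) (g := Over.mk (e.inv ≫ g)) e (e.hom_inv_id_assoc g)

theorem fp_left (l : Idx O B F) : FP (FS O B) ((toOver O B F).obj l).left := by
  rw [fp_iff]
  exact ⟨l.m, l.n, l.V, l.U, l.ψ, l.hV, l.hU, ⟨Iso.refl (cokernel l.ψ)⟩⟩

/-- A map over `F` to an object of finite presentation gives a map in the diagram. -/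
theorem exists_hom (l : Idx O B F) {G : Mod O} (hG : FP (FS O B) G) (g : G ⟶ F)
    (a : ((toOver O B F).obj l) ⟶ Over.mk g) :
    ∃ (l' : Idx O B F) (e : Over.mk g ≅ (toOver O B F).obj l') (b : l ⟶ l'),
      (toOver O B F).map b = a ≫ e.hom := by
  obtain ⟨l', ⟨e⟩⟩ := exists_iso hG g
  exact ⟨l', e, (toOver O B F).preimage (a ≫ e.hom), (toOver O B F).map_preimage _⟩

theorem fs_free {U : C} (hU : U ∈ B) : FS O B (freeOn O U) := by
  refine ⟨PUnit, inferInstance, fun _ => U, fun _ => hU, ⟨?_⟩⟩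
  exact
    { hom := Sigma.ι (fun _ : PUnit => freeOn O U) PUnit.unit
      inv := Sigma.desc fun _ => 𝟙 _
      hom_inv_id := Sigma.ι_desc _ _
      inv_hom_id := by
        refine Sigma.hom_ext _ _ fun i => ?_
        rw [Sigma.ι_desc_assoc, Category.id_comp, Category.comp_id] }

theorem fs_zero : FS O B (0 : Mod O) := by
  refine ⟨PEmpty, inferInstance, PEmpty.elim, fun i => i.elim, ⟨?_⟩⟩
  refine (isZero_zero _).iso ?_
  rw [IsZero.iff_id_eq_zero]
  exact Sigma.hom_ext _ _ fun i => i.elim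

theorem fp_of_fs {X : Mod O} (h : FS O B X) : FP (FS O B) X := by
  refine ⟨0, X, 0, 𝟙 X, by simp, fs_zero, h, inferInstance, ?_⟩
  rw [ShortComplex.exact_iff_exact_up_to_refinements]
  intro T x hx
  dsimp at hx
  rw [Category.comp_id] at hx
  exact ⟨T, 𝟙 T, inferInstance, 0, by simp [hx]⟩

section Filtered

variable (hB₁ : ∀ X : C, ∃ (κ : Type u) (Y : κ → C) (g : ∀ k, Y k ⟶ X), Sieve.ofArrows Y g ∈ J X ∧ ∀ k, Y k ∈ B)
  (hB₂ : ∀ U ∈ B, CohCx.IsQcObject ((presheafToSheaf J (Type u)).obj (yoneda.obj U)))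

include hB₁ hB₂

/-- Cokernels of maps from finite sums of free modules. -/
theorem exists_coker (l : Idx O B F) {K : Mod O} (hK : FT (FS O B) K) (k : K ⟶ ((toOver O B F).obj l).left)
    (hk : k ≫ ((toOver O B F).obj l).hom = 0) :
    ∃ (l' : Idx O B F) (b : l ⟶ l'), k ≫ ((toOver O B F).map b).left = 0 := by
  have h1 : FP (FS O B) (cokernel k) := FP.of_exact_right (lifts hB₁ hB₂) (sums B)
    (S := ShortComplex.mk k (cokernel.π k) (cokernel.condition k))
    (ShortComplex.exact_of_g_is_cokernel _ (cokernelIsCokernel k)) inferInstance hK (fp_left l)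
  obtain ⟨l', e, b, hb⟩ := exists_hom l h1 (cokernel.desc k _ hk) (Over.homMk (cokernel.π k) (cokernel.π_desc _ _ _))
  refine ⟨l', b, ?_⟩
  rw [hb, Over.comp_left]
  exact (Category.assoc _ _ _).symm.trans ((congrArg (· ≫ e.hom.left) (cokernel.condition k)).trans zero_comp)

theorem isFiltered : IsFiltered (Idx O B F) := by
  have h0 : Nonempty (Idx O B F) := by
    obtain ⟨l, _⟩ := exists_iso (F := F) (fp_of_fs (O := O) (B := B) fs_zero) 0
    exact ⟨l⟩
  have h1 : IsFilteredOrEmpty (Idx O B F) := by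
    refine ⟨fun l l' => ?_, fun l l' a b => ?_⟩
    · let g := biprod.desc ((toOver O B F).obj l).hom ((toOver O B F).obj l').hom
      have hg := FP.biprod (sums B) (fp_left l) (fp_left l')
      obtain ⟨l'', ⟨e⟩⟩ := exists_iso hg g
      refine ⟨l'', (toOver O B F).preimage ((Over.homMk biprod.inl (biprod.inl_desc _ _) : _ ⟶ Over.mk g) ≫ e.hom),
        (toOver O B F).preimage ((Over.homMk biprod.inr (biprod.inr_desc _ _) : _ ⟶ Over.mk g) ≫ e.hom), trivial⟩
    · have hk : (((toOver O B F).map a).left - ((toOver O B F).map b).left) ≫ ((toOver O B F).obj l').hom = 0 := by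
        rw [Preadditive.sub_comp, Over.w, Over.w, sub_self]
      obtain ⟨l'', c, hc⟩ := exists_coker hB₁ hB₂ l' (fp_left l).ft _ hk
      refine ⟨l'', c, ?_⟩
      apply (toOver O B F).map_injective
      rw [Preadditive.sub_comp, sub_eq_zero] at hc
      ext1
      rw [Functor.map_comp, Functor.map_comp, Over.comp_left, Over.comp_left, hc]
  exact { h1 with nonempty := h0 }

/-- The cocone. -/
noncomputable def cocone (O : Sheaf J CommRingCat.{u}) (B : Set C) (F : Mod O) :
    (toOver O B F ⋙ Over.forget F) ⟶ (Functor.const (Idx O B F)).obj F where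
  app l := ((toOver O B F).obj l).hom
  naturality _ _ a := (Over.w ((toOver O B F).map a)).trans (Category.comp_id _).symm

omit hB₁ hB₂ in
theorem exists_elem {U : C} (hU : U ∈ B) (s : sect F U) :
    ∃ (l : Idx O B F) (y : sect ((toOver O B F).obj l).left U), ap ((toOver O B F).obj l).hom U y = s := by
  obtain ⟨l, ⟨e⟩⟩ := exists_iso (F := F) (fp_of_fs (fs_free (O := O) hU)) (lift s)
  refine ⟨l, ap e.hom.left U (gen O U), ?_⟩
  rw [← ap_comp, Over.w]
  exact ap_lift_gen s

theorem locElem : haveI := isFiltered (F := F) hB₁ hB₂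
    Filt.LocElem (Cocone.mk F (cocone O B F)) := by
  have := isFiltered (F := F) hB₁ hB₂
  refine ⟨fun U s => ?_, fun U l y hy => ?_⟩
  · obtain ⟨κ, Y, g, hg, hY⟩ := hB₁ U
    refine ⟨_, hg, fun V v hv => ?_⟩
    obtain ⟨k, a, rfl⟩ := (Sieve.mem_ofArrows_iff _ _ _).1 hv
    obtain ⟨l, y, hy⟩ := exists_elem (F := F) (hY k) (rs F (g k) s)
    refine ⟨l, rs _ a y, ?_⟩
    change ap ((toOver O B F).obj l).hom V (rs _ a y) = _
    rw [ap_rs, hy, rs_rs]
  · obtain ⟨κ, Y, g, hg, hY⟩ := hB₁ U
    refine ⟨_, hg, fun V v hv => ?_⟩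
    obtain ⟨k, a, rfl⟩ := (Sieve.mem_ofArrows_iff _ _ _).1 hv
    change sect ((toOver O B F).obj l).left U at y
    change ap ((toOver O B F).obj l).hom U y = 0 at hy
    have hk : lift (rs _ (g k) y) ≫ ((toOver O B F).obj l).hom = 0 := by
      rw [lift_comp, ap_rs, hy, map_zero, lift_zero]
    obtain ⟨l', b, hb⟩ := exists_coker hB₁ hB₂ l (fp_of_fs (fs_free (hY k))).ft _ hk
    refine ⟨l', b, ?_⟩
    change ap ((toOver O B F).map b).left V (rs _ (a ≫ g k) y) = 0
    rw [← rs_rs, ap_rs]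
    have h2 := congrArg (fun t => ap t (Y k) (gen O (Y k))) hb
    rw [ap_comp, ap_lift_gen] at h2
    rw [h2]
    exact map_zero _

end Filtered

end K296.FPColim
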