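import Groth.Agent.ModSite.K296.FPAbs
import Mathlib.Algebra.Homology.ShortComplex.ShortExact

/-!
# Extensions of objects of finite presentation relative to a class of objects
-/

set_option autoImplicit false

universe v u

open CategoryTheory CategoryTheory.Limits

namespace K296.FPAbs

variable {A : Type u} [Category.{v} A] [Abelian A] (P : A → Prop)

/-- `Lifts P`, with control of the kernel of the refinement. -/
def LiftsFT : Prop :=
  ∀ (X : A), P X → ∀ (G F : A) (p : G ⟶ F) (f : X ⟶ F), Epi p →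
    ∃ (X' : A) (q : X' ⟶ X) (g : X' ⟶ G), P X' ∧ Epi q ∧ g ≫ p = q ≫ f ∧ FT P (kernel q)

variable {P}

theorem LiftsFT.lifts (h : LiftsFT P) : Lifts P := fun X hX G F p f hp => by
  obtain ⟨X', q, g, hX', hq, hg, _⟩ := h X hX G F p f hp
  exact ⟨X', q, g, hX', hq, hg⟩

/-- A member of `P` mapping onto `F` with kernel a quotient of a member of `P`. -/
theorem FP.of_epi_kernel {F X : A} (p : X ⟶ F) (hp : Epi p) (hX : P X)
    (hK : FT P (Limits.kernel p)) : FP P F :=
  FP.of_ft (Limits.kernel.ι p) p (kernel.condition p) hp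
    (ShortComplex.exact_of_f_is_kernel _ (kernelIsKernel p)) hX hK

/-- The kernel of a composite is an extension. -/
theorem FT.kernel_comp (hl : Lifts P) (hs : Sums P) {X Y Z : A} (q : X ⟶ Y) (p : Y ⟶ Z) (hq : Epi q)
    (h₁ : FT P (Limits.kernel q)) (h₂ : FT P (Limits.kernel p)) : FT P (Limits.kernel (q ≫ p)) := by
  have hwe : Limits.kernel.ι q ≫ q ≫ p = 0 := by rw [kernel.condition_assoc, zero_comp]
  let e : Limits.kernel q ⟶ Limits.kernel (q ≫ p) := kernel.lift (q ≫ p) (Limits.kernel.ι q) hwe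
  have he : e ≫ Limits.kernel.ι (q ≫ p) = Limits.kernel.ι q := kernel.lift_ι _ _ _
  have hwf : (Limits.kernel.ι (q ≫ p) ≫ q) ≫ p = 0 := by
    rw [Category.assoc, kernel.condition]
  let f : Limits.kernel (q ≫ p) ⟶ Limits.kernel p := kernel.lift p (Limits.kernel.ι (q ≫ p) ≫ q) hwf
  have hf : f ≫ Limits.kernel.ι p = Limits.kernel.ι (q ≫ p) ≫ q := kernel.lift_ι _ _ _
  have hef : e ≫ f = 0 := by
    rw [← cancel_mono (Limits.kernel.ι p), Category.assoc, hf, reassoc_of% he, kernel.condition, zero_comp]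
  have epi_f : Epi f := by
    rw [epi_iff_surjective_up_to_refinements]
    intro T y
    obtain ⟨T₁, π₁, h₁, x, hx⟩ := surjective_up_to_refinements_of_epi q (y ≫ Limits.kernel.ι p)
    refine ⟨T₁, π₁, h₁, kernel.lift (q ≫ p) x ?_, ?_⟩
    · rw [← Category.assoc, ← hx, Category.assoc, Category.assoc, kernel.condition, comp_zero, comp_zero]
    · rw [← cancel_mono (Limits.kernel.ι p), Category.assoc, Category.assoc, hf, kernel.lift_ι_assoc, hx]
  have hex3 : (ShortComplex.mk e f hef).Exact := by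
    rw [ShortComplex.exact_iff_exact_up_to_refinements]
    intro T x hx
    dsimp at x hx ⊢
    have h1 : (x ≫ Limits.kernel.ι (q ≫ p)) ≫ q = 0 := by
      rw [Category.assoc, ← hf, ← Category.assoc, hx, zero_comp]
    refine ⟨T, 𝟙 T, inferInstance, kernel.lift q _ h1, ?_⟩
    rw [← cancel_mono (Limits.kernel.ι (q ≫ p)), Category.id_comp, Category.assoc, he, kernel.lift_ι]
  exact FT.of_exact hl hs hex3 epi_f h₁ h₂

/-- The kernel of the presentation map is a quotient of a member of `P`. -/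
theorem ft_kernel_of_exact {Z X F : A} {r : Z ⟶ X} {p : X ⟶ F} (w : r ≫ p = 0)
    (hex : (ShortComplex.mk r p w).Exact) (hZ : P Z) : FT P (Limits.kernel p) := by
  refine ⟨Z, kernel.lift p r w, hZ, ?_⟩
  rw [epi_iff_surjective_up_to_refinements]
  intro T y
  obtain ⟨T₁, π₁, h₁, z, hz⟩ := hex.exact_up_to_refinements (y ≫ Limits.kernel.ι p) (by
    dsimp
    rw [Category.assoc, kernel.condition, comp_zero])
  refine ⟨T₁, π₁, h₁, z, ?_⟩
  rw [← cancel_mono (Limits.kernel.ι p), Category.assoc, Category.assoc, kernel.lift_ι]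
  exact hz

/-- Extensions of objects of finite presentation. -/
theorem FP.extension (hl : LiftsFT P) (hs : Sums P) {S : ShortComplex A} (hS : S.ShortExact)
    (h₁ : FP P S.X₁) (h₃ : FP P S.X₃) : FP P S.X₂ := by
  obtain ⟨Z₁, X₁, r₁, p₁, w₁, hZ₁, hX₁, hp₁, hex₁⟩ := h₁
  obtain ⟨Z₃, X₃, r₃, p₃, w₃, hZ₃, hX₃, hp₃, hex₃⟩ := h₃
  have hmono := hS.mono_f
  obtain ⟨X', q, g, hX', hq, hqg, hker⟩ := hl X₃ hX₃ _ _ S.g p₃ hS.epi_g
  let β : X' ⟶ S.X₃ := q ≫ p₃
  have hβ : FT P (Limits.kernel β) :=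
    FT.kernel_comp hl.lifts hs q p₃ hq hker (ft_kernel_of_exact w₃ hex₃ hZ₃)
  let π : X₁ ⊞ X' ⟶ S.X₂ := biprod.desc (p₁ ≫ S.f) g
  have hπ : Epi π := by
    rw [epi_iff_surjective_up_to_refinements]
    intro T y
    have := epi_comp q p₃
    obtain ⟨T₁, π₁, h₁, z, hz⟩ := surjective_up_to_refinements_of_epi (q ≫ p₃) (y ≫ S.g)
    have h0 : (π₁ ≫ y - z ≫ g) ≫ S.g = 0 := by
      rw [Preadditive.sub_comp, Category.assoc, Category.assoc, hz, hqg, sub_self]
    obtain ⟨T₂, π₂, h₂, w, hw⟩ := hS.exact.exact_up_to_refinements _ h0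
    obtain ⟨T₃, π₃, h₃, v, hv⟩ := surjective_up_to_refinements_of_epi p₁ w
    refine ⟨T₃, π₃ ≫ π₂ ≫ π₁, epi_comp' h₃ (epi_comp' h₂ h₁), biprod.lift v (π₃ ≫ π₂ ≫ z), ?_⟩
    rw [biprod.lift_desc, ← Category.assoc v, ← hv]
    simp only [Category.assoc]
    rw [← hw]
    simp only [Preadditive.comp_sub]
    abel
  refine FP.of_epi_kernel π hπ (hs _ _ hX₁ hX') ?_
  -- `kernel p₁ ⟶ kernel π ⟶ kernel β`
  have hwa : (Limits.kernel.ι p₁ ≫ biprod.inl) ≫ π = 0 := by
    rw [Category.assoc, biprod.inl_desc, kernel.condition_assoc, zero_comp]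
  let a : Limits.kernel p₁ ⟶ Limits.kernel π := kernel.lift π _ hwa
  have ha : a ≫ Limits.kernel.ι π = Limits.kernel.ι p₁ ≫ biprod.inl := kernel.lift_ι _ _ _
  have hπβ : π ≫ S.g = biprod.snd ≫ β := by
    apply biprod.hom_ext'
    · rw [biprod.inl_desc_assoc, biprod.inl_snd_assoc, zero_comp, Category.assoc, S.zero, comp_zero]
    · rw [biprod.inr_desc_assoc, biprod.inr_snd_assoc, hqg]
  have hwb : (Limits.kernel.ι π ≫ biprod.snd) ≫ β = 0 := by
    rw [Category.assoc, ← hπβ, kernel.condition_assoc, zero_comp]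
  let b : Limits.kernel π ⟶ Limits.kernel β := kernel.lift β _ hwb
  have hb : b ≫ Limits.kernel.ι β = Limits.kernel.ι π ≫ biprod.snd := kernel.lift_ι _ _ _
  have hab : a ≫ b = 0 := by
    rw [← cancel_mono (Limits.kernel.ι β), Category.assoc, hb, reassoc_of% ha, biprod.inl_snd, comp_zero,
      zero_comp]
  have epi_b : Epi b := by
    rw [epi_iff_surjective_up_to_refinements]
    intro T y
    have h0 : ((y ≫ Limits.kernel.ι β) ≫ g) ≫ S.g = 0 := by
      rw [Category.assoc, hqg]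
      change (y ≫ Limits.kernel.ι β) ≫ β = 0
      rw [Category.assoc, kernel.condition, comp_zero]
    obtain ⟨T₂, π₂, h₂, w, hw⟩ := hS.exact.exact_up_to_refinements _ h0
    obtain ⟨T₃, π₃, h₃, v, hv⟩ := surjective_up_to_refinements_of_epi p₁ w
    refine ⟨T₃, π₃ ≫ π₂, epi_comp' h₃ h₂,
      kernel.lift π (biprod.lift (-v) ((π₃ ≫ π₂) ≫ y ≫ Limits.kernel.ι β)) ?_, ?_⟩
    · have e1 : v ≫ p₁ ≫ S.f = (π₃ ≫ π₂) ≫ (y ≫ Limits.kernel.ι β) ≫ g := by
        rw [← Category.assoc v, ← hv, Category.assoc, ← hw]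
        simp only [Category.assoc]
      rw [biprod.lift_desc, Preadditive.neg_comp, e1]
      simp only [Category.assoc]
      exact neg_add_cancel _
    · rw [← cancel_mono (Limits.kernel.ι β), Category.assoc, Category.assoc _ b, hb, kernel.lift_ι_assoc,
        biprod.lift_snd]
  have hex : (ShortComplex.mk a b hab).Exact := by
    rw [ShortComplex.exact_iff_exact_up_to_refinements]
    intro T x hx
    dsimp at x hx ⊢
    have h1 : (x ≫ Limits.kernel.ι π) ≫ biprod.snd = 0 := by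
      rw [Category.assoc, ← hb, ← Category.assoc, hx, zero_comp]
    have h2 : (x ≫ Limits.kernel.ι π) = ((x ≫ Limits.kernel.ι π) ≫ biprod.fst) ≫ biprod.inl := by
      apply biprod.hom_ext
      · rw [Category.assoc _ biprod.inl, biprod.inl_fst, Category.comp_id]
      · rw [h1, Category.assoc, biprod.inl_snd, comp_zero]
    have h3 : ((x ≫ Limits.kernel.ι π) ≫ biprod.fst) ≫ p₁ = 0 := by
      have h4 : x ≫ Limits.kernel.ι π ≫ π = 0 := by rw [kernel.condition, comp_zero]
      rw [← Category.assoc, h2, Category.assoc, biprod.inl_desc, ← Category.assoc] at h4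
      rw [← cancel_mono S.f, h4, zero_comp]
    refine ⟨T, 𝟙 T, inferInstance, kernel.lift p₁ _ h3, ?_⟩
    rw [← cancel_mono (Limits.kernel.ι π), Category.id_comp, Category.assoc, ha, kernel.lift_ι_assoc]
    exact h2
  exact FT.of_exact hl.lifts hs hex epi_b (ft_kernel_of_exact w₁ hex₁ hZ₁) hβ

end K296.FPAbs
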