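import Groth.Agent.ModSite.K296.FreeOn
import Groth.Agent.ModSite.K296.Qc
import Groth.Agent.ModSite.K296.FPExt

/-!
# Finite sums of free modules on quasi-compact objects

`FS O B X`: `X` is a finite direct sum of modules `freeOn O U`, `U ∈ B`.  When every object has a covering by members
of `B` and the members of `B` are quasi-compact, `FS O B` satisfies `FPAbs.Lifts` (and `LiftsFT` when moreover fibre
products of members of `B` over members of `B` are quasi-compact).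
-/

set_option autoImplicit false

universe u

open CategoryTheory CategoryTheory.Limits Opposite

namespace K296.FPFree

open ModSite K296.FreeOn K296.FPAbs

variable {C : Type u} [SmallCategory C] {J : GrothendieckTopology C} (O : Sheaf J CommRingCat.{u})

/-- Finite direct sums of modules `freeOn O U` with `U ∈ B`. -/
def FS (B : Set C) (X : Mod O) : Prop :=
  ∃ (κ : Type u) (_ : Finite κ) (U : κ → C), (∀ i, U i ∈ B) ∧ Nonempty (X ≅ ∐ fun i => freeOn O (U i))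

variable {O}

/-- Gluing of sections along a covering family. -/
theorem glue (F : Mod O) {U : C} {κ : Type u} (Y : κ → C) (g : ∀ k, Y k ⟶ U) (hg : Sieve.ofArrows Y g ∈ J U)
    (s : ∀ k, sect F (Y k))
    (hs : ∀ (k l : κ) (W : C) (a : W ⟶ Y k) (b : W ⟶ Y l), a ≫ g k = b ≫ g l → rs F a (s k) = rs F b (s l)) :
    ∃ t : sect F U, ∀ k, rs F (g k) t = s k := by
  have hF : Presieve.IsSheaf J (F.val.presheaf ⋙ forget _) := (isSheaf_iff_isSheaf_of_type _ _).1
    ((Presheaf.isSheaf_iff_isSheaf_forget J F.val.presheaf (forget AddCommGrpCat.{u})).1 F.isSheaf)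
  have h1 : (Presieve.ofArrows Y g).IsSheafFor (F.val.presheaf ⋙ forget _) := by
    rw [Presieve.isSheafFor_iff_generate]
    exact hF _ hg
  rw [Presieve.isSheafFor_arrows_iff] at h1
  obtain ⟨t, ht, -⟩ := h1 s (fun k l W a b hab => hs k l W a b hab)
  exact ⟨t, ht⟩

/-- The map given by a covering family is an epimorphism. -/
theorem hom_ext_cover {F : Mod O} {U : C} {κ : Type u} (Y : κ → C) (g : ∀ k, Y k ⟶ U)
    (hg : Sieve.ofArrows Y g ∈ J U) {a b : freeOn O U ⟶ F} (h : ∀ k, map O (g k) ≫ a = map O (g k) ≫ b) :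
    a = b := by
  apply hom_ext_gen
  refine eq_of_locally _ _ _ hg ?_
  intro W w hw
  obtain ⟨k, c, rfl⟩ := (Sieve.mem_ofArrows_iff _ _ _).1 hw
  have h1 := congrArg (fun t => ap t _ (gen O (Y k))) (h k)
  simp only [ap_comp] at h1
  have e : ap (map O (g k)) (Y k) (gen O (Y k)) = rs _ (g k) (gen O U) := ap_lift_gen _
  rw [e, ap_rs, ap_rs] at h1
  rw [← rs_rs, ← rs_rs, h1]

/-- Free modules on a cover refine. -/
theorem exists_lift {B : Set C}
    (hB₁ : ∀ X : C, ∃ (κ : Type u) (Y : κ → C) (g : ∀ k, Y k ⟶ X), Sieve.ofArrows Y g ∈ J X ∧ ∀ k, Y k ∈ B)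
    {U : C} (hU : CohCx.IsQcObject ((presheafToSheaf J (Type u)).obj (yoneda.obj U))) {G F : Mod O} (p : G ⟶ F)
    [Epi p] (s : sect F U) :
    ∃ (κ : Type u) (_ : Finite κ) (Y : κ → C) (g : ∀ k, Y k ⟶ U) (t : ∀ k, sect G (Y k)), (∀ k, Y k ∈ B) ∧
      Sieve.ofArrows Y g ∈ J U ∧ ∀ k, ap p (Y k) (t k) = rs F (g k) s := by
  obtain ⟨S, hS, h⟩ := (epi_iff p).1 inferInstance U s
  obtain ⟨κ, hκ, Y, g, hY, hg, hc⟩ := Qc.exists_finite_cover hU B hB₁ S hS
  choose t ht using fun k => h (g k) (hg k)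
  exact ⟨κ, hκ, Y, g, t, hY, hc, ht⟩

/-- Biproduct of two coproducts. -/
noncomputable def biprodSigmaIso {D : Type (u + 1)} [Category.{u} D] [Abelian D] {κ κ' : Type u} (H : κ ⊕ κ' → D)
    [HasCoproduct H] [HasCoproduct fun i => H (Sum.inl i)] [HasCoproduct fun i => H (Sum.inr i)] :
    ((∐ fun i => H (Sum.inl i)) ⊞ (∐ fun i => H (Sum.inr i))) ≅ ∐ H where
  hom := biprod.desc (Sigma.desc fun i => Sigma.ι H (Sum.inl i)) (Sigma.desc fun i => Sigma.ι H (Sum.inr i))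
  inv := Sigma.desc (Sum.rec (fun i => Sigma.ι (fun i => H (Sum.inl i)) i ≫ biprod.inl)
    (fun i => Sigma.ι (fun i => H (Sum.inr i)) i ≫ biprod.inr))
  hom_inv_id := by
    apply biprod.hom_ext'
    · refine Sigma.hom_ext _ _ fun i => ?_
      rw [biprod.inl_desc_assoc, Sigma.ι_desc_assoc, Sigma.ι_desc, Category.comp_id]
    · refine Sigma.hom_ext _ _ fun i => ?_
      rw [biprod.inr_desc_assoc, Sigma.ι_desc_assoc, Sigma.ι_desc, Category.comp_id]
  inv_hom_id := by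
    refine Sigma.hom_ext _ _ ?_
    rintro (i | i)
    · rw [Sigma.ι_desc_assoc, Category.assoc, biprod.inl_desc, Sigma.ι_desc, Category.comp_id]
    · rw [Sigma.ι_desc_assoc, Category.assoc, biprod.inr_desc, Sigma.ι_desc, Category.comp_id]

/-- `FS` is closed under binary biproducts. -/
theorem sums (B : Set C) : Sums (FS O B) := by
  rintro X Y ⟨κ, _, U, hU, ⟨e⟩⟩ ⟨κ', _, U', hU', ⟨e'⟩⟩
  refine ⟨κ ⊕ κ', inferInstance, Sum.elim U U', ?_, ⟨?_⟩⟩
  · rintro (i | i)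
    · exact hU i
    · exact hU' i
  · exact biprod.mapIso e e' ≪≫ biprodSigmaIso (fun i => freeOn O (Sum.elim U U' i))

theorem FS.of_iso {B : Set C} {X Y : Mod O} (h : FS O B X) (e : X ≅ Y) : FS O B Y := by
  obtain ⟨κ, h1, U, hU, ⟨e'⟩⟩ := h
  exact ⟨κ, h1, U, hU, ⟨e.symm ≪≫ e'⟩⟩

section Refine

variable {κ : Type u} (U : κ → C) (μ : κ → Type u) (Y : ∀ i, μ i → C) (g : ∀ i k, Y i k ⟶ U i)

/-- The refinement of a direct sum of free modules by coverings. -/
noncomputable def refineMap (O : Sheaf J CommRingCat.{u}) :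
    (∐ fun a : Sigma μ => freeOn O (Y a.1 a.2)) ⟶ ∐ fun i => freeOn O (U i) :=
  Sigma.desc fun a => map O (g a.1 a.2) ≫ Sigma.ι (fun i => freeOn O (U i)) a.1

lemma ι_refineMap (a : Sigma μ) : Sigma.ι (fun a : Sigma μ => freeOn O (Y a.1 a.2)) a ≫ refineMap U μ Y g O =
    map O (g a.1 a.2) ≫ Sigma.ι (fun i => freeOn O (U i)) a.1 := Sigma.ι_desc _ _

theorem epi_refineMap (hg : ∀ i, Sieve.ofArrows (Y i) (g i) ∈ J (U i)) : Epi (refineMap U μ Y g O) := by
  constructor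
  intro H a b hab
  refine Sigma.hom_ext _ _ fun i => hom_ext_cover (Y i) (g i) (hg i) fun k => ?_
  have h := congrArg (fun t => Sigma.ι (fun a : Sigma μ => freeOn O (Y a.1 a.2)) ⟨i, k⟩ ≫ t) hab
  dsimp only at h
  rw [← Category.assoc, ← Category.assoc, ι_refineMap] at h
  simpa only [Category.assoc] using h

variable [HasPullbacks C]

/-- The relations of a refinement. -/
noncomputable def relMap (O : Sheaf J CommRingCat.{u}) :
    (∐ fun a : (Σ i, μ i × μ i) => freeOn O (pullback (g a.1 a.2.1) (g a.1 a.2.2))) ⟶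
      ∐ fun a : Sigma μ => freeOn O (Y a.1 a.2) :=
  Sigma.desc fun a => map O (pullback.fst (g a.1 a.2.1) (g a.1 a.2.2)) ≫
      Sigma.ι (fun a : Sigma μ => freeOn O (Y a.1 a.2)) ⟨a.1, a.2.1⟩ -
    map O (pullback.snd (g a.1 a.2.1) (g a.1 a.2.2)) ≫
      Sigma.ι (fun a : Sigma μ => freeOn O (Y a.1 a.2)) ⟨a.1, a.2.2⟩

lemma ι_relMap (a : Σ i, μ i × μ i) :
    Sigma.ι (fun a : (Σ i, μ i × μ i) => freeOn O (pullback (g a.1 a.2.1) (g a.1 a.2.2))) a ≫ relMap U μ Y g O =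
    map O (pullback.fst (g a.1 a.2.1) (g a.1 a.2.2)) ≫
      Sigma.ι (fun a : Sigma μ => freeOn O (Y a.1 a.2)) ⟨a.1, a.2.1⟩ -
    map O (pullback.snd (g a.1 a.2.1) (g a.1 a.2.2)) ≫
      Sigma.ι (fun a : Sigma μ => freeOn O (Y a.1 a.2)) ⟨a.1, a.2.2⟩ := Sigma.ι_desc _ _

lemma relMap_refineMap : relMap U μ Y g O ≫ refineMap U μ Y g O = 0 := by
  refine Sigma.hom_ext _ _ fun a => ?_
  rw [← Category.assoc, ι_relMap, Preadditive.sub_comp, Category.assoc, Category.assoc, ι_refineMap, ι_refineMap,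
    comp_zero, ← Category.assoc, ← Category.assoc, map_map, map_map, pullback.condition, sub_self]

theorem exact_refineMap (hg : ∀ i, Sieve.ofArrows (Y i) (g i) ∈ J (U i)) :
    (ShortComplex.mk (relMap U μ Y g O) (refineMap U μ Y g O) (relMap_refineMap U μ Y g)).Exact := by
  have := epi_refineMap (O := O) U μ Y g hg
  refine ShortComplex.exact_of_g_is_cokernel _ (CokernelCofork.IsColimit.ofπ' _ _ (fun {H} h hh => ?_))
  let t : ∀ a : Sigma μ, sect H (Y a.1 a.2) := fun a =>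
    ap (Sigma.ι (fun a : Sigma μ => freeOn O (Y a.1 a.2)) a ≫ h) _ (gen O _)
  have ht : ∀ a : Sigma μ, Sigma.ι (fun a : Sigma μ => freeOn O (Y a.1 a.2)) a ≫ h = lift (t a) := fun a =>
    (lift_ap_gen _).symm
  have hc : ∀ i, ∃ s : sect H (U i), ∀ k, rs H (g i k) s = t ⟨i, k⟩ := by
    intro i
    refine glue H (Y i) (g i) (hg i) (fun k => t ⟨i, k⟩) ?_
    intro k l W a b hab
    have h1 := congrArg (fun z => Sigma.ι (fun a : (Σ i, μ i × μ i) =>
      freeOn O (pullback (g a.1 a.2.1) (g a.1 a.2.2))) ⟨i, k, l⟩ ≫ z) hh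
    dsimp only at h1
    rw [← Category.assoc, ι_relMap, comp_zero, Preadditive.sub_comp, Category.assoc, Category.assoc, ht, ht,
      map_lift, map_lift, sub_eq_zero] at h1
    have h2 := congrArg (fun z => rs H (pullback.lift a b hab) (ap z _ (gen O _))) h1
    dsimp only at h2
    rw [ap_lift_gen, ap_lift_gen, rs_rs, rs_rs, pullback.lift_fst, pullback.lift_snd] at h2
    exact h2
  choose s hs using hc
  refine ⟨Sigma.desc fun i => lift (s i), ?_⟩
  refine Sigma.hom_ext _ _ fun a => ?_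
  rw [ht, ← Category.assoc]
  refine (congrArg (· ≫ _) (ι_refineMap U μ Y g a)).trans ?_
  rw [Category.assoc, Sigma.ι_desc, map_lift, hs]

end Refine

section Lifts

variable {B : Set C}
  (hB₁ : ∀ X : C, ∃ (κ : Type u) (Y : κ → C) (g : ∀ k, Y k ⟶ X), Sieve.ofArrows Y g ∈ J X ∧ ∀ k, Y k ∈ B)
  (hB₂ : ∀ U ∈ B, CohCx.IsQcObject ((presheafToSheaf J (Type u)).obj (yoneda.obj U)))

include hB₁

/-- A finite sum of free modules on quasi-compact objects is a quotient of a member of `FS O B`. -/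
theorem ft_sigma {κ : Type u} [Finite κ] (W : κ → C)
    (hW : ∀ i, CohCx.IsQcObject ((presheafToSheaf J (Type u)).obj (yoneda.obj (W i)))) :
    FT (FS O B) (∐ fun i => freeOn O (W i)) := by
  choose μ hμ Y g hY _ hg using fun i => Qc.exists_finite_cover (hW i) B hB₁ ⊤ (J.top_mem _)
  refine ⟨∐ fun a : Sigma μ => freeOn O (Y a.1 a.2), refineMap W μ Y g O, ?_, epi_refineMap W μ Y g hg⟩
  exact ⟨Sigma μ, inferInstance, fun a => Y a.1 a.2, fun a => hY a.1 a.2, ⟨Iso.refl _⟩⟩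

include hB₂

theorem exists_refine {κ : Type u} [Finite κ] (U : κ → C) (hU : ∀ i, U i ∈ B) {G F : Mod O} (p : G ⟶ F)
    (hp : Epi p) (f : (∐ fun i => freeOn O (U i)) ⟶ F) :
    ∃ (μ : κ → Type u) (_ : ∀ i, Finite (μ i)) (Y : ∀ i, μ i → C) (g : ∀ i k, Y i k ⟶ U i)
      (l : (∐ fun a : Sigma μ => freeOn O (Y a.1 a.2)) ⟶ G), (∀ i k, Y i k ∈ B) ∧
      (∀ i, Sieve.ofArrows (Y i) (g i) ∈ J (U i)) ∧ l ≫ p = refineMap U μ Y g O ≫ f := by
  choose μ hμ Y g t hY hg ht using fun i => exists_lift (O := O) hB₁ (hB₂ (U i) (hU i)) p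
    (ap (Sigma.ι (fun i => freeOn O (U i)) i ≫ f) _ (gen O (U i)))
  refine ⟨μ, hμ, Y, g, Sigma.desc fun a => lift (t a.1 a.2), hY, hg, ?_⟩
  refine Sigma.hom_ext _ _ fun a => ?_
  rw [Sigma.ι_desc_assoc, ← Category.assoc, ι_refineMap, lift_comp, ht, Category.assoc, ← map_lift, lift_ap_gen]

theorem lifts : Lifts (FS O B) := by
  rintro X ⟨κ, _, U, hU, ⟨e⟩⟩ G F p f hp
  obtain ⟨μ, hμ, Y, g, l, hY, hg, hl⟩ := exists_refine (O := O) hB₁ hB₂ U hU p hp (e.inv ≫ f)
  have := epi_refineMap (O := O) U μ Y g hg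
  refine ⟨_, refineMap U μ Y g O ≫ e.inv, l, ?_, epi_comp _ _, ?_⟩
  · exact ⟨Sigma μ, inferInstance, fun a => Y a.1 a.2, fun a => hY a.1 a.2, ⟨Iso.refl _⟩⟩
  · rw [hl, Category.assoc]

theorem liftsFT [HasPullbacks C]
    (hB₃ : ∀ (U U₁ U₂ : C) (f₁ : U₁ ⟶ U) (f₂ : U₂ ⟶ U), U ∈ B → U₁ ∈ B → U₂ ∈ B →
      CohCx.IsQcObject ((presheafToSheaf J (Type u)).obj (yoneda.obj (pullback f₁ f₂)))) :
    LiftsFT (FS O B) := by
  rintro X ⟨κ, _, U, hU, ⟨e⟩⟩ G F p f hp
  obtain ⟨μ, hμ, Y, g, l, hY, hg, hl⟩ := exists_refine (O := O) hB₁ hB₂ U hU p hp (e.inv ≫ f)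
  have := epi_refineMap (O := O) U μ Y g hg
  refine ⟨_, refineMap U μ Y g O ≫ e.inv, l, ?_, epi_comp _ _, ?_, ?_⟩
  · exact ⟨Sigma μ, inferInstance, fun a => Y a.1 a.2, fun a => hY a.1 a.2, ⟨Iso.refl _⟩⟩
  · rw [hl, Category.assoc]
  · have w : relMap U μ Y g O ≫ refineMap U μ Y g O ≫ e.inv = 0 := by
      rw [← Category.assoc, relMap_refineMap, zero_comp]
    have h1 : FT (FS O B) (∐ fun a : (Σ i, μ i × μ i) => freeOn O (pullback (g a.1 a.2.1) (g a.1 a.2.2))) :=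
      ft_sigma hB₁ _ fun a => hB₃ _ _ _ _ _ (hU a.1) (hY a.1 a.2.1) (hY a.1 a.2.2)
    have hex : (ShortComplex.mk (relMap U μ Y g O) (refineMap U μ Y g O ≫ e.inv) w).Exact :=
      ShortComplex.exact_of_iso (S₁ := ShortComplex.mk (relMap U μ Y g O) (refineMap U μ Y g O)
        (relMap_refineMap U μ Y g))
        (ShortComplex.isoMk (Iso.refl _) (Iso.refl _) e.symm (by simp) (by simp)) (exact_refineMap U μ Y g hg)
    have h2 : Epi (kernel.lift (refineMap U μ Y g O ≫ e.inv) (relMap U μ Y g O) w) := by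
      rw [ShortComplex.exact_iff_epi_kernel_lift] at hex
      exact hex
    exact h1.of_epi (kernel.lift (refineMap U μ Y g O ≫ e.inv) (relMap U μ Y g O) w)

end Lifts

section Forms

/-- The form of the statements. -/
theorem fp_iff (B : Set C) (F : Mod O) : FP (FS O B) F ↔
    ∃ (m' n' : ℕ) (V' : Fin m' → C) (U' : Fin n' → C)
        (ψ : (∐ fun j => ModSite.freeOn O (V' j)) ⟶ ∐ fun i => ModSite.freeOn O (U' i)),
        (∀ j, V' j ∈ B) ∧ (∀ i, U' i ∈ B) ∧ Nonempty (F ≅ cokernel ψ) := by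
  constructor
  · rintro ⟨Z, X, r, p, w, ⟨κ, _, V, hV, ⟨eZ⟩⟩, ⟨κ', _, U, hU, ⟨eX⟩⟩, hp, hex⟩
    let a := Finite.equivFin κ
    let b := Finite.equivFin κ'
    let eZ' : Z ≅ ∐ fun j => freeOn O (V (a.symm j)) :=
      eZ ≪≫ Sigma.whiskerEquiv a fun j => eqToIso (by rw [Equiv.symm_apply_apply])
    let eX' : X ≅ ∐ fun j => freeOn O (U (b.symm j)) :=
      eX ≪≫ Sigma.whiskerEquiv b fun j => eqToIso (by rw [Equiv.symm_apply_apply])
    refine ⟨Nat.card κ, Nat.card κ', fun j => V (a.symm j), fun j => U (b.symm j),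
      eZ'.inv ≫ r ≫ eX'.hom, fun j => hV _, fun j => hU _, ⟨?_⟩⟩
    have e1 : F ≅ cokernel r := IsColimit.coconePointUniqueUpToIso (s := CokernelCofork.ofπ p w)
      (t := CokernelCofork.ofπ (cokernel.π r) (cokernel.condition r)) hex.gIsCokernel (cokernelIsCokernel r)
    exact e1 ≪≫ cokernel.mapIso _ _ eZ' eX' (by simp)
  · rintro ⟨m', n', V, U, ψ, hV, hU, ⟨e⟩⟩
    refine ⟨_, _, ψ, cokernel.π ψ ≫ e.inv, by simp, ?_, ?_, inferInstance, ?_⟩
    · exact ⟨ULift.{u} (Fin m'), inferInstance, fun j => V j.down, fun j => hV _,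
        ⟨Sigma.whiskerEquiv (g := fun j : ULift.{u} (Fin m') => freeOn O (V j.down)) Equiv.ulift.symm
          fun j => Iso.refl _⟩⟩
    · exact ⟨ULift.{u} (Fin n'), inferInstance, fun j => U j.down, fun j => hU _,
        ⟨Sigma.whiskerEquiv (g := fun j : ULift.{u} (Fin n') => freeOn O (U j.down)) Equiv.ulift.symm
          fun j => Iso.refl _⟩⟩
    · have h1 : (ShortComplex.mk ψ (cokernel.π ψ) (cokernel.condition ψ)).Exact :=
        ShortComplex.exact_of_g_is_cokernel _ (cokernelIsCokernel ψ)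
      exact ShortComplex.exact_of_iso (S₁ := ShortComplex.mk ψ (cokernel.π ψ) (cokernel.condition ψ))
        (ShortComplex.isoMk (Iso.refl _) (Iso.refl _) e.symm (by simp) (by simp)) h1

end Forms

end K296.FPFree
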