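import Groth.Agent.ModSite.K296.HMColim
import Groth.Agent.ModSite.K293.PullUnit
import Groth.Agent.Topos.H565.CohCore

/-!
# Maps out of a module of finite presentation and filtered colimits
-/

set_option autoImplicit false

universe u

open CategoryTheory CategoryTheory.Limits Opposite

namespace K296.FPHom

open ModSite K296.FreeOn K293.LocHom K296.IHom K296.LocFP K293.PullUnit
open Groth.Agent.CohtopB.CohColim (Uf)

variable {C : Type u} [SmallCategory C] {J : GrothendieckTopology C} {O : Sheaf J CommRingCat.{u}}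

/-- The global section of the internal hom given by a morphism. -/
noncomputable def toGlob {F G : Mod O} (a : F ⟶ G) : pt J ⟶ (Uf J).obj (toAb (HMobj F G)) :=
  (ptEquiv _).symm ⟨fun V => (show LH V.unop F G from (ModSite.restr O V.unop).map a), fun _ => rfl⟩

/-- The morphism given by a global section of the internal hom. -/
noncomputable def ofGlob {F G : Mod O} (h : pt J ⟶ (Uf J).obj (toAb (HMobj F G))) : F ⟶ G :=
  let s : ∀ V : C, LH V F G := fun V => (ptEquiv _ h).1 (op V)
  have hs : ∀ ⦃V W : C⦄ (g : W ⟶ V), lres g (s V) = s W := fun V W g => (ptEquiv _ h).2 g.op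
  mkHom (fun V => lev (s V) (𝟙 V)) (fun V r m => lev_smul _ _ _ _) (fun V W g m => by
    rw [← hs g, lev_lres, ← lev_rs, Category.id_comp, Category.comp_id])

theorem ofGlob_toGlob {F G : Mod O} (a : F ⟶ G) : ofGlob (toGlob a) = a := rfl

theorem toGlob_ofGlob {F G : Mod O} (h : pt J ⟶ (Uf J).obj (toAb (HMobj F G))) : toGlob (ofGlob h) = h := by
  apply (ptEquiv _).injective
  apply Subtype.ext
  funext V
  obtain ⟨V⟩ := V
  have hs : ∀ ⦃W : C⦄ (g : W ⟶ V), lres g (show LH V F G from (ptEquiv _ h).1 (op V)) =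
    (show LH W F G from (ptEquiv _ h).1 (op W)) := fun W g => (ptEquiv _ h).2 g.op
  refine IHom.lh_ext (M := F) (N := G) (V := V) fun Z a m => ?_
  change lev (show LH Z F G from (ptEquiv _ h).1 (op Z)) (𝟙 Z) m =
    lev (show LH V F G from (ptEquiv _ h).1 (op V)) a m
  rw [← hs a, lev_lres, Category.id_comp]

theorem toGlob_comp {F G G' : Mod O} (a : F ⟶ G) (f : G ⟶ G') :
    toGlob (a ≫ f) = toGlob a ≫ (Uf J).map ((SheafOfModules.toSheaf (ringSh O)).map ((HM F).map f)) := by
  apply (ptEquiv _).injective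
  apply Subtype.ext
  funext V
  exact (ModSite.restr O V.unop).map_comp a f

theorem ofGlob_comp {F G G' : Mod O} (h : pt J ⟶ (Uf J).obj (toAb (HMobj F G))) (f : G ⟶ G') :
    ofGlob (h ≫ (Uf J).map ((SheafOfModules.toSheaf (ringSh O)).map ((HM F).map f))) = ofGlob h ≫ f := rfl

section Cover

variable {S : Set (Sheaf J (Type u))}
    (hSa : ∀ F : Sheaf J (Type u), Epi (terminal.from F) → ∃ K ∈ S, Epi (terminal.from K) ∧ Nonempty (K ⟶ F))
    (hSb : ∀ K ∈ S, CohCx.IsQcObject (K ⨯ K))

include hSa in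
theorem hSa' (F : Sheaf J (Type u)) (f : F ⟶ pt J) (hf : Epi f) :
    ∃ K ∈ S, (∀ g : K ⟶ pt J, Epi g) ∧ Nonempty (K ⟶ F) := by
  have h1 : terminal.from F = f ≫ terminal.from (pt J) := Subsingleton.elim _ _
  have h2 : IsIso (terminal.from (pt J)) := ((isTerminalPt J).uniqueUpToIso terminalIsTerminal).isIso_hom
  obtain ⟨K, hK, hK1, hK2⟩ := hSa F (by rw [h1]; infer_instance)
  refine ⟨K, hK, fun g => ?_, hK2⟩
  have h3 : g = terminal.from K ≫ ((isTerminalPt J).uniqueUpToIso terminalIsTerminal).inv :=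
    (isTerminalPt J).hom_ext _ _
  rw [h3]
  infer_instance

include hSa hSb in
theorem isQcObject_pt : CohCx.IsQcObject (pt J) := by
  obtain ⟨K, hK, hK1, -⟩ := hSa' hSa (pt J) (𝟙 _) inferInstance
  have h1 := (Groth.Agent.Topos.H565.FinSum.isQcObject_iff_isQC _).1 (hSb K hK)
  have h2 : Epi ((isTerminalPt J).from K) := hK1 _
  have h3 : Epi (prod.fst : K ⨯ K ⟶ K) := by
    have : IsSplitEpi (prod.fst : K ⨯ K ⟶ K) := ⟨⟨diag K, prod.lift_fst _ _⟩⟩
    infer_instance
  have h4 : Epi ((prod.fst : K ⨯ K ⟶ K) ≫ (isTerminalPt J).from K) := epi_comp _ _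
  exact (Groth.Agent.Topos.H565.FinSum.isQcObject_iff_isQC _).2
    (Groth.Agent.Sga4A.FinBase.isQC_of_epi ((prod.fst : K ⨯ K ⟶ K) ≫ (isTerminalPt J).from K) h1)

include hSa hSb in
theorem goodCover_pt : Groth.Agent.Topos.H565.CohCore.GoodCover (pt J) := by
  intro L g hg
  obtain ⟨K, hK, hK1, ⟨k⟩⟩ := hSa' hSa L g hg
  refine ⟨K, k, hK1 _, ?_⟩
  have h1 := (Groth.Agent.Topos.H565.FinSum.isQcObject_iff_isQC _).1 (hSb K hK)
  rw [Groth.Agent.Topos.H565.FinSum.isQcObject_iff_isQC]
  refine Groth.Agent.Sga4A.FinBase.isQC_of_iso ?_ h1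
  exact { hom := pullback.lift prod.fst prod.snd ((isTerminalPt J).hom_ext _ _)
          inv := prod.lift (pullback.fst _ _) (pullback.snd _ _)
          hom_inv_id := by
            apply Limits.prod.hom_ext
            · rw [Category.assoc, Limits.prod.lift_fst, pullback.lift_fst, Category.id_comp]
            · rw [Category.assoc, Limits.prod.lift_snd, pullback.lift_snd, Category.id_comp]
          inv_hom_id := by
            apply pullback.hom_ext
            · rw [Category.assoc, pullback.lift_fst, Limits.prod.lift_fst, Category.id_comp]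
            · rw [Category.assoc, pullback.lift_snd, Limits.prod.lift_snd, Category.id_comp] }

include hSa hSb in
theorem preservesColimit_coyoneda (F : Mod O) (hF : SheafOfModules.IsFinitePresentation (R := ringSh O) F)
    {Λ : Type u} [SmallCategory Λ] [IsFiltered Λ] (D : Λ ⥤ Mod O) : PreservesColimit D (coyoneda.obj (op F)) where
  preserves {c} hc := by
    have h1 := locElem_HM (c := c) (loc_pres F hF) (Filt.locElem_of_isColimit hc)
    obtain ⟨h2⟩ := Filt.nonempty_isColimit_of_locElem h1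
    have h3 := Filt.toAb_locElem h2
    have hq := isQcObject_pt hSa hSb
    have hg := goodCover_pt hSa hSb
    refine ⟨Types.FilteredColimit.isColimitOf _ _ ?_ ?_⟩
    · intro b
      obtain ⟨i, t, ht⟩ := Groth.Agent.Topos.H565.CohCore.map_surj' h3 hq hg (toGlob (F := F) (G := c.pt) b)
      refine ⟨i, ofGlob (F := F) (G := D.obj i) t, ?_⟩
      have h4 := congrArg (ofGlob (F := F) (G := c.pt)) ht
      exact h4.symm
    · intro i j a b hab
      obtain ⟨k, f, g, -⟩ := IsFilteredOrEmpty.cocone_objs i j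
      have h4 : toGlob (F := F) (G := D.obj k) (a ≫ D.map f) ≫ (Uf J).map ((SheafOfModules.toSheaf (ringSh O)).map ((HM F).map (c.ι.app k))) =
          toGlob (F := F) (G := D.obj k) (b ≫ D.map g) ≫ (Uf J).map ((SheafOfModules.toSheaf (ringSh O)).map ((HM F).map (c.ι.app k))) := by
        rw [← toGlob_comp, ← toGlob_comp, Category.assoc, Category.assoc, c.w, c.w]
        exact congrArg toGlob hab
      obtain ⟨l, u, hu⟩ := Groth.Agent.Topos.H565.CohCore.map_inj' h3 hq k _ _ h4
      refine ⟨l, f ≫ u, g ≫ u, ?_⟩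
      have h5 : toGlob (F := F) (G := D.obj l) ((a ≫ D.map f) ≫ D.map u) =
          toGlob (F := F) (G := D.obj l) ((b ≫ D.map g) ≫ D.map u) := by
        rw [toGlob_comp, toGlob_comp]
        exact hu
      have h6 := congrArg (ofGlob (F := F) (G := D.obj l)) h5
      rw [ofGlob_toGlob, ofGlob_toGlob] at h6
      change a ≫ D.map (f ≫ u) = b ≫ D.map (g ≫ u)
      rw [D.map_comp, D.map_comp, ← Category.assoc, ← Category.assoc]
      exact h6

end Cover

end K296.FPHom
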