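import Groth.Agent.ModSite.K296.LocPres

/-!
# The internal hom out of a module of finite presentation commutes with filtered colimits
-/

set_option autoImplicit false

universe u

open CategoryTheory CategoryTheory.Limits Opposite

namespace K296.LocFP

open ModSite K296.FreeOn K293.LocHom K296.IHom

variable {C : Type u} [SmallCategory C] {J : GrothendieckTopology C} {O : Sheaf J CommRingCat.{u}}
variable {I : Type u} [SmallCategory I] [IsFiltered I] {D : I ⥤ Mod O} {c : Cocone D}

omit [IsFiltered I] in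
theorem ap_w {i j : I} (f : i ⟶ j) {V : C} (s : sect (D.obj i) V) :
    ap (c.ι.app j) V (ap (D.map f) V s) = ap (c.ι.app i) V s := by
  rw [← ap_comp, c.w]

theorem exists_common_kill {κ : Type*} [Finite κ] (i : I) (Y : C) (r : κ → sect (D.obj i) Y)
    (h : ∀ j, ∃ (i' : I) (f : i ⟶ i'), ap (D.map f) Y (r j) = 0) :
    ∃ (i' : I) (f : i ⟶ i'), ∀ j, ap (D.map f) Y (r j) = 0 := by
  classical
  have := Fintype.ofFinite κ
  have key : ∀ A : Finset κ, ∃ (i' : I) (f : i ⟶ i'), ∀ j ∈ A, ap (D.map f) Y (r j) = 0 := by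
    intro A
    induction A using Finset.induction_on with
    | empty => exact ⟨i, 𝟙 i, fun j hj => absurd hj (Finset.notMem_empty j)⟩
    | insert a A _ ih =>
      obtain ⟨i₁, f₁, h₁⟩ := ih
      obtain ⟨i₂, f₂, h₂⟩ := h a
      obtain ⟨k, g₁, g₂, hg⟩ := IsFiltered.span f₁ f₂
      refine ⟨k, f₁ ≫ g₁, fun j hj => ?_⟩
      rcases Finset.mem_insert.1 hj with rfl | hj
      · rw [hg, D.map_comp, ap_comp, h₂, map_zero]
      · rw [D.map_comp, ap_comp, h₁ j hj, map_zero]
  obtain ⟨i', f, hf⟩ := key Finset.univ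
  exact ⟨i', f, fun j => hf j (Finset.mem_univ j)⟩

theorem exists_common_stage {κ : Type*} [Finite κ] (Y : C) (z : κ → sect c.pt Y)
    (h : ∀ j, ∃ (i : I) (y : sect (D.obj i) Y), ap (c.ι.app i) Y y = z j) :
    ∃ (i : I) (y : κ → sect (D.obj i) Y), ∀ j, ap (c.ι.app i) Y (y j) = z j := by
  classical
  have := Fintype.ofFinite κ
  choose i y hy using h
  obtain ⟨k, hk⟩ := IsFiltered.sup_objs_exists (Finset.univ.image i)
  have f : ∀ j, i j ⟶ k := fun j => (hk (Finset.mem_image_of_mem i (Finset.mem_univ j))).some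
  exact ⟨k, fun j => ap (D.map (f j)) Y (y j), fun j => by rw [ap_w, hy]⟩

theorem locElem_HM {M : Mod O} (hM : ∀ V : C, Loc J V (fun W _ => Nonempty (Pres M W))) (hc : Filt.LocElem c) :
    Filt.LocElem ((HM M).mapCocone c) := by
  refine ⟨fun V s => ?_, fun V i φ hφ => ?_⟩
  · have s₀ : LH V M c.pt := s
    obtain ⟨s₀, hs₀⟩ : ∃ s₀ : LH V M c.pt, s₀ = s := ⟨s, rfl⟩
    refine (hM V).bind (q := fun Y k => ∃ (i : I) (y : sect ((HM M).obj (D.obj i)) Y),
      ap ((HM M).map (c.ι.app i)) Y y = rs ((HM M).obj c.pt) k s) fun W g hP => ?_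
    obtain ⟨P⟩ := hP
    have h1 : Loc J W (fun Y h => ∀ k, ∃ (i : I) (y : sect (D.obj i) Y),
        ap (c.ι.app i) Y y = rs c.pt h (lev s₀ g (P.x k))) :=
      Loc.all fun k => hc.surj W (lev s₀ g (P.x k))
    refine h1.bind fun Y h hh => ?_
    obtain ⟨i, y, hy⟩ := exists_common_stage (c := c) Y (fun k => rs c.pt h (lev s₀ g (P.x k))) hh
    have h2 : Loc J Y (fun Y' h' => ∀ j, ∃ (i' : I) (f : i ⟶ i'),
        ap (D.map f) Y' (rs _ h' (∑ k, (P.restr h).a j k • y k)) = 0) := by
      refine Loc.all fun j => hc.inj Y i _ ?_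
      have e1 : ap (c.ι.app i) Y (∑ k, (P.restr h).a j k • y k) =
          ∑ k, (P.restr h).a j k • rs c.pt h (lev s₀ g (P.x k)) := by
        rw [map_sum]
        exact Finset.sum_congr rfl fun k _ => by rw [ap_smul, hy]
      have e2 : ∑ k, (P.restr h).a j k • rs c.pt h (lev s₀ g (P.x k)) =
          rs c.pt h (lev s₀ g (∑ k, P.a j k • P.x k)) := by
        rw [map_sum, map_sum]
        refine Finset.sum_congr rfl fun k _ => ?_
        rw [lev_smul, rs_smul]
        rfl
      rw [e1, e2, P.rel, map_zero, map_zero]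
    refine h2.mono fun Y' h' hh' => ?_
    obtain ⟨i', f, hf⟩ := exists_common_kill i Y' (fun j => rs _ h' (∑ k, (P.restr h).a j k • y k)) hh'
    obtain ⟨φ, hφ⟩ := ((P.restr h).restr h').exists_lh (N := D.obj i') (fun k => ap (D.map f) Y' (rs _ h' (y k))) (by
      intro j
      rw [← hf j, map_sum, map_sum]
      refine Finset.sum_congr rfl fun k _ => ?_
      rw [rs_smul, ap_smul]
      rfl)
    refine ⟨i', φ, ?_⟩
    have e3 : (postLH M (c.ι.app i') Y' φ : LH Y' M c.pt) = lres (h' ≫ h ≫ g) s₀ := by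
      refine ((P.restr h).restr h').lh_ext fun k => ?_
      rw [lev_postLH, hφ, ap_w, ap_rs, hy, lev_lres]
      change rs c.pt h' (rs c.pt h (lev s₀ g (P.x k))) = lev s₀ (𝟙 Y' ≫ h' ≫ h ≫ g) (rs M h' (rs M h (P.x k)))
      rw [Category.id_comp, lev_rs, lev_rs]
    subst hs₀
    exact e3.trans (by rw [Category.assoc]; rfl)
  · obtain ⟨φ₀, hφ₀⟩ : ∃ φ₀ : LH V M (D.obj i), φ₀ = φ := ⟨φ, rfl⟩
    have hφ' : postLH M (c.ι.app i) V φ₀ = 0 := by
      subst hφ₀
      exact hφ
    refine (hM V).bind (q := fun Y k => ∃ (j : I) (f : i ⟶ j),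
      ap ((D ⋙ HM M).map f) Y (rs ((HM M).obj (D.obj i)) k φ) = 0) fun W g hP => ?_
    obtain ⟨P⟩ := hP
    have h1 : Loc J W (fun Y h => ∀ k, ∃ (j : I) (f : i ⟶ j),
        ap (D.map f) Y (rs _ h (lev φ₀ g (P.x k))) = 0) := by
      refine Loc.all fun k => hc.inj W i _ ?_
      have e1 := congrArg (fun t => lev t g (P.x k)) hφ'
      exact e1
    refine h1.mono fun Y h hh => ?_
    obtain ⟨i', f, hf⟩ := exists_common_kill i Y (fun k => rs _ h (lev φ₀ g (P.x k))) hh
    refine ⟨i', f, ?_⟩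
    have e3 : postLH M (D.map f) Y (lres (h ≫ g) φ₀) = (0 : LH Y M (D.obj i')) := by
      refine (P.restr h).lh_ext fun k => ?_
      rw [lev_postLH, lev_lres, lev_zero]
      change ap (D.map f) Y (lev φ₀ (𝟙 Y ≫ h ≫ g) (rs M h (P.x k))) = 0
      rw [Category.id_comp, lev_rs, hf]
    subst hφ₀
    exact e3

/-- The internal hom out of a module of finite presentation preserves filtered colimits. -/
theorem preservesColimit_HM (M : Mod O) (hM : SheafOfModules.IsFinitePresentation (R := ringSh O) M) :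
    PreservesColimit D (HM M) where
  preserves hc := Filt.nonempty_isColimit_of_locElem (locElem_HM (loc_pres M hM) (Filt.locElem_of_isColimit hc))

theorem preservesColimit_sheafHom (M : Mod O) [HasSheafHom M]
    (hM : SheafOfModules.IsFinitePresentation (R := ringSh O) M) :
    PreservesColimit D (sheafHom M) :=
  have := preservesColimit_HM (D := D) M hM
  preservesColimit_of_natIso D (sheafHomIso M).symm

end K296.LocFP
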