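import Groth.Agent.ModSite.K293.LocHom
import Groth.Agent.ModSite.K291.Mon
import Groth.Agent.ExtSupp.K787.TensSec

/-!
# The internal hom of sheaves of modules, explicitly

`HM M N` is the sheaf of modules whose sections over `V` are the local maps `LH V M N = (M|_V ⟶ N|_V)`.

* `lev φ a : M(Z) →+ N(Z)`: value of a local map `φ ∈ LH V M N` over `a : Z ⟶ V`; `mkLH`, `lh_ext`;
* `glueLH`: local maps glue along covering sieves;
* `HM M : Mod O ⥤ Mod O`.
-/

set_option autoImplicit false

universe u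

open CategoryTheory CategoryTheory.Limits Opposite

namespace K296.IHom

open ModSite K296.FreeOn K293.LocHom

variable {C : Type u} [SmallCategory C] {J : GrothendieckTopology C} {O : Sheaf J CommRingCat.{u}}

section Lev

variable {M N P : Mod O} {V : C}

/-- Value of a local map over an arrow. -/
noncomputable def lev (φ : LH V M N) {Z : C} (a : Z ⟶ V) : sect M Z →+ sect N Z :=
  ap φ (Over.mk a)

theorem lev_rs (φ : LH V M N) {Z Z' : C} (a : Z ⟶ V) (b : Z' ⟶ Z) (s : sect M Z) :
    lev φ (b ≫ a) (rs M b s) = rs N b (lev φ a s) :=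
  ap_rs φ (Over.homMk b : Over.mk (b ≫ a) ⟶ Over.mk a) s

theorem lev_smul (φ : LH V M N) {Z : C} (a : Z ⟶ V) (r : O.obj.obj (op Z)) (s : sect M Z) :
    lev φ a (r • s) = r • lev φ a s :=
  ap_smul φ (V := Over.mk a) r s

theorem lh_ext {φ ψ : LH V M N} (h : ∀ ⦃Z : C⦄ (a : Z ⟶ V) (s : sect M Z), lev φ a s = lev ψ a s) :
    φ = ψ :=
  hom_ext fun Y s => h Y.hom s

theorem lev_comp (φ : LH V M N) (ψ : LH V N P) {Z : C} (a : Z ⟶ V) (s : sect M Z) :
    lev (φ ≫ ψ) a s = lev ψ a (lev φ a s) := rfl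

theorem lev_map (f : M ⟶ N) {Z : C} (a : Z ⟶ V) (s : sect M Z) :
    lev ((ModSite.restr O V).map f : LH V M N) a s = ap f Z s := rfl

theorem lev_add (φ ψ : LH V M N) {Z : C} (a : Z ⟶ V) (s : sect M Z) :
    lev (φ + ψ) a s = lev φ a s + lev ψ a s := rfl

theorem lev_zero {Z : C} (a : Z ⟶ V) (s : sect M Z) : lev (0 : LH V M N) a s = 0 := rfl

theorem lev_lres {W : C} (g : W ⟶ V) (φ : LH V M N) {Z : C} (a : Z ⟶ W) (s : sect M Z) :
    lev (lres g φ) a s = lev φ (a ≫ g) s := rfl

theorem lres_id' (φ : LH V M N) : lres (𝟙 V) φ = φ :=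
  lh_ext fun Z a s => by rw [lev_lres, Category.comp_id]

theorem lres_lres {W Z : C} (g : W ⟶ V) (h : Z ⟶ W) (φ : LH V M N) :
    lres h (lres g φ) = lres (h ≫ g) φ :=
  lh_ext fun Z' a s => by rw [lev_lres, lev_lres, lev_lres, Category.assoc]

variable (M N V) in
/-- A local map from its values. -/
noncomputable def mkLH (f : ∀ ⦃Z : C⦄ (_ : Z ⟶ V), sect M Z →+ sect N Z)
    (hs : ∀ ⦃Z : C⦄ (a : Z ⟶ V) (r : O.obj.obj (op Z)) (s : sect M Z), f a (r • s) = r • f a s)
    (hr : ∀ ⦃Z Z' : C⦄ (a : Z ⟶ V) (b : Z' ⟶ Z) (s : sect M Z), f (b ≫ a) (rs M b s) = rs N b (f a s)) :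
    LH V M N :=
  ⟨PresheafOfModules.homMk (M₁ := ((ModSite.restr O V).obj M).val) (M₂ := ((ModSite.restr O V).obj N).val)
    { app := fun Y => AddCommGrpCat.ofHom (f Y.unop.hom)
      naturality := fun Y Y' k => by
        refine AddCommGrpCat.hom_ext (AddMonoidHom.ext fun s => ?_)
        have h := hr Y.unop.hom k.unop.left s
        rw [Over.w k.unop] at h
        exact h }
    (fun Y r s => hs Y.unop.hom r s)⟩

theorem lev_mkLH (f : ∀ ⦃Z : C⦄ (_ : Z ⟶ V), sect M Z →+ sect N Z)
    (hs : ∀ ⦃Z : C⦄ (a : Z ⟶ V) (r : O.obj.obj (op Z)) (s : sect M Z), f a (r • s) = r • f a s)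
    (hr : ∀ ⦃Z Z' : C⦄ (a : Z ⟶ V) (b : Z' ⟶ Z) (s : sect M Z), f (b ≫ a) (rs M b s) = rs N b (f a s))
    {Z : C} (a : Z ⟶ V) (s : sect M Z) : lev (mkLH M N V f hs hr) a s = f a s := rfl

end Lev

section Glue

variable {M N : Mod O} {V : C}

/-- A local map is zero if it is locally so. -/
theorem lh_eq_of_locally {φ ψ : LH V M N} (S : Sieve V) (hS : S ∈ J V)
    (h : ∀ ⦃W : C⦄ (g : W ⟶ V), S g → lres g φ = lres g ψ) : φ = ψ := by
  refine lh_ext fun Z a s => eq_of_locally _ _ (S.pullback a) (J.pullback_stable a hS) fun W g hg => ?_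
  have h1 := congrArg (fun t => lev t (𝟙 W) (rs M g s)) (h (g ≫ a) hg)
  rw [lev_lres, lev_lres, Category.id_comp, lev_rs, lev_rs] at h1
  exact h1

/-- Local maps glue. -/
theorem exists_glueLH (S : Sieve V) (hS : S ∈ J V) (x : ∀ ⦃W : C⦄ (g : W ⟶ V), S g → LH W M N)
    (hx : ∀ ⦃W W' : C⦄ (g : W ⟶ V) (k : W' ⟶ W) (hg : S g),
      lres k (x g hg) = x (k ≫ g) (S.downward_closed hg k)) :
    ∃ φ : LH V M N, ∀ ⦃W : C⦄ (g : W ⟶ V) (hg : S g), lres g φ = x g hg := by
  -- the family of values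
  have hN : Presieve.IsSheaf J (N.val.presheaf ⋙ forget _) := (isSheaf_iff_isSheaf_of_type _ _).1
    ((Presheaf.isSheaf_iff_isSheaf_forget J N.val.presheaf (forget AddCommGrpCat.{u})).1 N.isSheaf)
  have key : ∀ ⦃Z : C⦄ (a : Z ⟶ V) (s : sect M Z), ∃ t : sect N Z, ∀ ⦃W : C⦄ (g : W ⟶ Z) (hg : S (g ≫ a)),
      rs N g t = lev (x (g ≫ a) hg) (𝟙 W) (rs M g s) := by
    intro Z a s
    have h1 := hN _ (J.pullback_stable a hS)
    let y : Presieve.FamilyOfElements (N.val.presheaf ⋙ forget _) (S.pullback a).arrows :=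
      fun W g hg => lev (x (g ≫ a) hg) (𝟙 W) (rs M g s)
    have hy : y.Compatible := by
      rw [Presieve.compatible_iff_sieveCompatible]
      intro W W' g k hg
      change lev (x ((k ≫ g) ≫ a) _) (𝟙 W') (rs M (k ≫ g) s) = rs N k (lev (x (g ≫ a) hg) (𝟙 W) (rs M g s))
      rw [← lev_rs, rs_rs, Category.comp_id]
      have h2 := hx (g ≫ a) k hg
      have h3 : ∀ (b : W' ⟶ V) (hb : S b) (e : b = k ≫ g ≫ a),
          lev (x b hb) (𝟙 W') (rs M (k ≫ g) s) =
          lev (x (k ≫ g ≫ a) (S.downward_closed hg k)) (𝟙 W') (rs M (k ≫ g) s) := by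
        rintro b hb rfl
        rfl
      rw [h3 _ _ (Category.assoc k g a), ← h2, lev_lres, Category.id_comp]
    obtain ⟨t, ht, -⟩ := h1 y hy
    exact ⟨t, fun W g hg => ht g hg⟩
  choose t ht using key
  have uniq : ∀ ⦃Z : C⦄ (a : Z ⟶ V) (s : sect M Z) (t' : sect N Z), (∀ ⦃W : C⦄ (g : W ⟶ Z) (hg : S (g ≫ a)),
      rs N g t' = lev (x (g ≫ a) hg) (𝟙 W) (rs M g s)) → t a s = t' := by
    intro Z a s t' h
    refine eq_of_locally _ _ (S.pullback a) (J.pullback_stable a hS) fun W g hg => ?_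
    rw [ht a s g hg, h g hg]
  refine ⟨mkLH M N V (fun Z a => AddMonoidHom.mk' (t a) fun s s' => ?_) ?_ ?_, ?_⟩
  · refine uniq a _ _ fun W g hg => ?_
    rw [map_add, map_add, map_add, ht, ht]
  · intro Z a r s
    refine uniq a _ _ fun W g hg => ?_
    change rs N g (r • t a s) = _
    rw [rs_smul, rs_smul, lev_smul, ht]
  · intro Z Z' a b s
    refine uniq (b ≫ a) _ _ fun W g hg => ?_
    change rs N g (rs N b (t a s)) = _
    have hg' : S ((g ≫ b) ≫ a) := by rwa [Category.assoc]
    rw [rs_rs, rs_rs, ht a s (g ≫ b) hg']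
    have h3 : ∀ (c : W ⟶ V) (hc : S c) (e : c = (g ≫ b) ≫ a),
        lev (x c hc) (𝟙 W) (rs M (g ≫ b) s) = lev (x ((g ≫ b) ≫ a) hg') (𝟙 W) (rs M (g ≫ b) s) := by
      rintro c hc rfl
      rfl
    exact (h3 _ _ (Category.assoc g b a).symm).symm
  · intro W g hg
    refine lh_ext fun Z a s => ?_
    rw [lev_lres]
    refine uniq (a ≫ g) s _ fun W' k hk => ?_
    rw [← lev_rs]
    have h2 := hx g (k ≫ a) hg
    have h3 : ∀ (c : W' ⟶ V) (hc : S c) (e : c = (k ≫ a) ≫ g),
        lev (x c hc) (𝟙 W') (rs M k s) =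
          lev (x ((k ≫ a) ≫ g) (S.downward_closed hg _)) (𝟙 W') (rs M k s) := by
      rintro c hc rfl
      rfl
    rw [h3 _ _ (Category.assoc k a g).symm, ← h2, lev_lres, Category.id_comp]

end Glue

section HM

variable (M N P : Mod O) (V : C)

/-- Multiplication of a local map by a section of the structure sheaf. -/
noncomputable def lsmul (r : O.obj.obj (op V)) (φ : LH V M N) : LH V M N :=
  mkLH M N V (fun Z a => AddMonoidHom.mk' (fun s => (O.obj.map a.op).hom r • lev φ a s) fun s s' => by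
      rw [map_add, smul_add])
    (fun Z a r' s => by
      change (O.obj.map a.op).hom r • lev φ a (r' • s) = r' • (O.obj.map a.op).hom r • lev φ a s
      rw [lev_smul, smul_smul, smul_smul, mul_comm])
    (fun Z Z' a b s => by
      change (O.obj.map (b ≫ a).op).hom r • lev φ (b ≫ a) (rs M b s) =
        rs N b ((O.obj.map a.op).hom r • lev φ a s)
      rw [lev_rs, rs_smul, op_comp, O.obj.map_comp]
      rfl)

theorem lev_lsmul (r : O.obj.obj (op V)) (φ : LH V M N) {Z : C} (a : Z ⟶ V) (s : sect M Z) :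
    lev (lsmul M N V r φ) a s = (O.obj.map a.op).hom r • lev φ a s := rfl

/-- The module of local maps. -/
@[instance_reducible]
noncomputable def modLH : Module (O.obj.obj (op V)) (LH V M N) where
  smul := lsmul M N V
  one_smul φ := lh_ext fun Z a s => by
    change (O.obj.map a.op).hom 1 • lev φ a s = _
    rw [map_one, one_smul]
  mul_smul r r' φ := lh_ext fun Z a s => by
    change (O.obj.map a.op).hom (r * r') • lev φ a s = (O.obj.map a.op).hom r • (O.obj.map a.op).hom r' • lev φ a s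
    rw [map_mul, mul_smul]
  smul_zero r := lh_ext fun Z a s => by
    change (O.obj.map a.op).hom r • (0 : sect N Z) = 0
    rw [smul_zero]
  smul_add r φ ψ := lh_ext fun Z a s => by
    change (O.obj.map a.op).hom r • (lev φ a s + lev ψ a s) =
      (O.obj.map a.op).hom r • lev φ a s + (O.obj.map a.op).hom r • lev ψ a s
    rw [smul_add]
  add_smul r r' φ := lh_ext fun Z a s => by
    change (O.obj.map a.op).hom (r + r') • lev φ a s =
      (O.obj.map a.op).hom r • lev φ a s + (O.obj.map a.op).hom r' • lev φ a s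
    rw [map_add, add_smul]
  zero_smul φ := lh_ext fun Z a s => by
    change (O.obj.map a.op).hom 0 • lev φ a s = (0 : sect N Z)
    rw [map_zero, zero_smul]

/-- The presheaf of abelian groups of local maps. -/
noncomputable def preHM : Cᵒᵖ ⥤ AddCommGrpCat.{u} where
  obj V := AddCommGrpCat.of (LH V.unop M N)
  map g := AddCommGrpCat.ofHom (AddMonoidHom.mk' (fun φ => lres g.unop φ) fun φ ψ => lres_add g.unop φ ψ)
  map_id V := AddCommGrpCat.hom_ext (AddMonoidHom.ext fun φ => lres_id' φ)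
  map_comp f g := AddCommGrpCat.hom_ext (AddMonoidHom.ext fun φ => (lres_lres f.unop g.unop φ).symm)

theorem isSheaf_preHM : Presheaf.IsSheaf J (preHM M N) := by
  rw [Presheaf.isSheaf_iff_isSheaf_forget J (preHM M N) (forget AddCommGrpCat.{u}),
    isSheaf_iff_isSheaf_of_type]
  intro V S hS x hx
  rw [Presieve.compatible_iff_sieveCompatible] at hx
  obtain ⟨φ, hφ⟩ := exists_glueLH (M := M) (N := N) S hS (fun W g hg => x g hg)
    (fun W W' g k hg => (hx g k hg).symm)
  refine ⟨φ, fun W g hg => hφ g hg, fun ψ hψ => ?_⟩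
  refine lh_eq_of_locally S hS fun W g hg => ?_
  exact (hψ g hg).trans (hφ g hg).symm

/-- The internal hom. -/
noncomputable def HMobj : Mod O where
  val := letI : ∀ X : Cᵒᵖ, Module ((ringSh O).obj.obj X) ((preHM M N).obj X) := fun X => modLH M N X.unop
    PresheafOfModules.ofPresheaf (preHM M N) (fun V W g r φ => lh_ext fun Z a s => by
      change (O.obj.map (a ≫ g.unop).op).hom r • lev (show LH V.unop M N from φ) (a ≫ g.unop) s =
        (O.obj.map a.op).hom ((O.obj.map g).hom r) • lev (show LH V.unop M N from φ) (a ≫ g.unop) s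
      rw [op_comp, O.obj.map_comp]
      rfl)
  isSheaf := isSheaf_preHM M N

variable {M N P V}

/-- Value of a section of the internal hom over an arrow. -/
noncomputable def hev (φ : sect (HMobj M N) V) {Z : C} (a : Z ⟶ V) : sect M Z →+ sect N Z :=
  lev (M := M) (N := N) (V := V) φ a

theorem rs_HM {W : C} (g : W ⟶ V) (φ : LH V M N) :
    rs (HMobj M N) g φ = lres g φ := rfl

theorem hev_rs {W : C} (g : W ⟶ V) (φ : sect (HMobj M N) V) {Z : C} (a : Z ⟶ W) (s : sect M Z) :
    hev (rs (HMobj M N) g φ) a s = hev φ (a ≫ g) s := rfl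

theorem hev_smul (r : O.obj.obj (op V)) (φ : sect (HMobj M N) V) {Z : C} (a : Z ⟶ V) (s : sect M Z) :
    hev (r • φ) a s = (O.obj.map a.op).hom r • hev φ a s := rfl

theorem hev_add (φ ψ : sect (HMobj M N) V) {Z : C} (a : Z ⟶ V) (s : sect M Z) :
    hev (φ + ψ) a s = hev φ a s + hev ψ a s := rfl

theorem hev_zero {Z : C} (a : Z ⟶ V) (s : sect M Z) : hev (0 : sect (HMobj M N) V) a s = 0 := rfl

theorem hev_comp_rs (φ : sect (HMobj M N) V) {Z Z' : C} (a : Z ⟶ V) (b : Z' ⟶ Z) (s : sect M Z) :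
    hev φ (b ≫ a) (rs M b s) = rs N b (hev φ a s) := lev_rs _ _ _ _

theorem hev_lin (φ : sect (HMobj M N) V) {Z : C} (a : Z ⟶ V) (r : O.obj.obj (op Z)) (s : sect M Z) :
    hev φ a (r • s) = r • hev φ a s := lev_smul _ _ _ _

theorem hev_ext {φ ψ : sect (HMobj M N) V} (h : ∀ ⦃Z : C⦄ (a : Z ⟶ V) (s : sect M Z), hev φ a s = hev ψ a s) :
    φ = ψ := lh_ext (M := M) (N := N) (V := V) h

end HM

section Functor

variable {A B M N P : Mod O}

/-- Constructor for morphisms of sheaves of modules from maps of sections. -/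
noncomputable def mkHom (f : ∀ V : C, sect M V →+ sect N V)
    (hs : ∀ (V : C) (r : O.obj.obj (op V)) (s : sect M V), f V (r • s) = r • f V s)
    (hr : ∀ ⦃V W : C⦄ (g : W ⟶ V) (s : sect M V), f W (rs M g s) = rs N g (f V s)) : M ⟶ N :=
  ⟨PresheafOfModules.homMk (M₁ := M.val) (M₂ := N.val)
    { app := fun V => AddCommGrpCat.ofHom (f V.unop)
      naturality := fun _ _ k => AddCommGrpCat.hom_ext (AddMonoidHom.ext fun s => hr k.unop s) }
    (fun V r s => hs V.unop r s)⟩

theorem ap_mkHom (f : ∀ V : C, sect M V →+ sect N V)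
    (hs : ∀ (V : C) (r : O.obj.obj (op V)) (s : sect M V), f V (r • s) = r • f V s)
    (hr : ∀ ⦃V W : C⦄ (g : W ⟶ V) (s : sect M V), f W (rs M g s) = rs N g (f V s)) {V : C} (s : sect M V) :
    ap (mkHom f hs hr) V s = f V s := rfl

/-- Composition of a local map with a global one, as an additive map. -/
noncomputable def postLH (M : Mod O) (f : N ⟶ P) (V : C) : LH V M N →+ LH V M P :=
  AddMonoidHom.mk' (fun φ => φ ≫ (ModSite.restr O V).map f) fun _ _ => Preadditive.add_comp _ _ _ _ _ _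

theorem lev_postLH (f : N ⟶ P) {V Z : C} (φ : LH V M N) (a : Z ⟶ V) (s : sect M Z) :
    lev (postLH M f V φ) a s = ap f Z (lev φ a s) := rfl

/-- The action of a map on internal homs. -/
noncomputable def HMmap (M : Mod O) (f : N ⟶ P) : HMobj M N ⟶ HMobj M P :=
  mkHom (M := HMobj M N) (N := HMobj M P) (fun V => postLH M f V)
    (fun V r φ => hev_ext fun Z a s => by
      change ap f Z (hev (r • φ) a s) = (O.obj.map a.op).hom r • ap f Z (hev φ a s)
      rw [hev_smul, ap_smul])
    (fun V W g φ => rfl)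

theorem hev_HMmap (f : N ⟶ P) {V Z : C} (φ : sect (HMobj M N) V) (a : Z ⟶ V) (s : sect M Z) :
    hev (ap (HMmap M f) V φ) a s = ap f Z (hev φ a s) := rfl

/-- The internal hom as a functor. -/
noncomputable def HM (M : Mod O) : Mod O ⥤ Mod O where
  obj N := HMobj M N
  map f := HMmap M f
  map_id N := hom_ext fun V φ => hev_ext fun Z a s => rfl
  map_comp f g := hom_ext fun V φ => hev_ext fun Z a s => rfl

end Functor

section Tensor

open K787.TensSec MonoidalCategory

variable {A B M N P : Mod O}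

/-- Tensor product of sections. -/
noncomputable def tm {V : C} (m : sect M V) (n : sect N V) : sect (((tensorBi O).obj M).obj N) V :=
  tp M N V (TensorProduct.tmul (O.obj.obj (op V)) m n)

theorem tm_add {V : C} (m : sect M V) (n n' : sect N V) : tm m (n + n') = tm m n + tm m n' := by
  unfold tm
  rw [TensorProduct.tmul_add, map_add]

theorem add_tm {V : C} (m m' : sect M V) (n : sect N V) : tm (m + m') n = tm m n + tm m' n := by
  unfold tm
  rw [TensorProduct.add_tmul, map_add]

theorem tm_smul {V : C} (r : O.obj.obj (op V)) (m : sect M V) (n : sect N V) : tm m (r • n) = r • tm m n := by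
  unfold tm
  rw [TensorProduct.tmul_smul]
  exact (((K291.Mon.shAdj O).unit.app ((K291.Mon.toP O).obj M ⊗ (K291.Mon.toP O).obj N)).app (op V)).hom.map_smul r _

theorem smul_tm {V : C} (r : O.obj.obj (op V)) (m : sect M V) (n : sect N V) : tm (r • m) n = r • tm m n := by
  rw [← tm_smul]
  unfold tm
  rw [TensorProduct.smul_tmul]

theorem rs_tm {V W : C} (g : W ⟶ V) (m : sect M V) (n : sect N V) :
    rs _ g (tm m n) = tm (rs M g m) (rs N g n) := rs_tp M N g _

theorem ap_tm_right (f : M ⟶ P) {V : C} (m : sect M V) (n : sect N V) :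
    ap (((tensorBi O).map f).app N) V (tm m n) = tm (ap f V m) n := ev_whiskerRight_tp f N m n

theorem ap_tm_left (f : N ⟶ P) {V : C} (m : sect M V) (n : sect N V) :
    ap (((tensorBi O).obj M).map f) V (tm m n) = tm m (ap f V n) := ev_whiskerLeft_tp M f m n

theorem tens_hom_ext {f g : ((tensorBi O).obj M).obj N ⟶ P}
    (h : ∀ (V : C) (m : sect M V) (n : sect N V), ap f V (tm m n) = ap g V (tm m n)) : f = g := by
  refine hom_ext fun V t => ?_
  obtain ⟨R, hR, hR'⟩ := exists_tp M N t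
  refine eq_of_locally _ _ R hR fun W k hk => ?_
  obtain ⟨z, hz⟩ := hR' k hk
  have hz' : tp M N W z = rs _ k t := hz
  rw [← ap_rs, ← ap_rs, ← hz']
  clear hz hz'
  induction z using TensorProduct.induction_on with
  | zero => rw [map_zero, map_zero, map_zero]
  | tmul m n => exact h W m n
  | add a b ha hb => rw [map_add, map_add, map_add, ha, hb]

section Desc

variable (b : ∀ V : C, sect M V →+ sect N V →+ sect P V)
  (h₁ : ∀ (V : C) (r : O.obj.obj (op V)) (m : sect M V) (n : sect N V), b V (r • m) n = r • b V m n)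
  (h₂ : ∀ (V : C) (r : O.obj.obj (op V)) (m : sect M V) (n : sect N V), b V m (r • n) = r • b V m n)
  (hr : ∀ ⦃V W : C⦄ (g : W ⟶ V) (m : sect M V) (n : sect N V), b W (rs M g m) (rs N g n) = rs P g (b V m n))

/-- The map of presheaves out of the tensor product given by a bilinear map. -/
noncomputable def tdescP : (K291.Mon.toP O).obj M ⊗ (K291.Mon.toP O).obj N ⟶ (K291.Mon.toP O).obj P where
  app V := ModuleCat.ofHom (TensorProduct.lift (LinearMap.mk₂ (O.obj.obj V) (fun m n => b V.unop m n)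
    (fun m m' n => DFunLike.congr_fun (map_add (b V.unop) m m') n) (fun r m n => h₁ V.unop r m n)
    (fun m n n' => map_add (b V.unop m) n n')
    (fun r m n => h₂ V.unop r m n)))
  naturality {V W} g := ModuleCat.MonoidalCategory.tensor_ext fun m n => hr g.unop m n

/-- The map out of the tensor product given by a bilinear map. -/
noncomputable def tdesc : ((tensorBi O).obj M).obj N ⟶ P :=
  ((K291.Mon.shAdj O).homEquiv _ _).symm (tdescP b h₁ h₂ hr)

theorem ap_tdesc {V : C} (m : sect M V) (n : sect N V) : ap (tdesc b h₁ h₂ hr) V (tm m n) = b V m n := by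
  have h := ((K291.Mon.shAdj O).homEquiv _ _).apply_symm_apply (tdescP b h₁ h₂ hr)
  rw [Adjunction.homEquiv_unit] at h
  exact congrArg (fun t : (K291.Mon.toP O).obj M ⊗ (K291.Mon.toP O).obj N ⟶ (K291.Mon.toP O).obj P =>
    t.app (op V) (TensorProduct.tmul (O.obj.obj (op V)) m n)) h

end Desc

/-- Currying. -/
noncomputable def curry (f : ((tensorBi O).obj A).obj M ⟶ N) : A ⟶ HMobj M N :=
  mkHom (M := A) (N := HMobj M N) (fun V => AddMonoidHom.mk'
      (fun a => mkLH M N V (fun Z g => AddMonoidHom.mk' (fun m => ap f Z (tm (rs A g a) m)) fun m m' => by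
          rw [tm_add, map_add])
        (fun Z g r m => by
          change ap f Z (tm (rs A g a) (r • m)) = r • ap f Z (tm (rs A g a) m)
          rw [tm_smul, ap_smul])
        (fun Z Z' g k m => by
          change ap f Z' (tm (rs A (k ≫ g) a) (rs M k m)) = rs N k (ap f Z (tm (rs A g a) m))
          rw [← rs_rs, ← rs_tm, ap_rs]))
      (fun a a' => hev_ext fun Z g m => by
        change ap f Z (tm (rs A g (a + a')) m) = ap f Z (tm (rs A g a) m) + ap f Z (tm (rs A g a') m)
        rw [map_add, add_tm, map_add]))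
    (fun V r a => hev_ext fun Z g m => by
      rw [hev_smul]
      change ap f Z (tm (rs A g (r • a)) m) = (O.obj.map g.op).hom r • ap f Z (tm (rs A g a) m)
      rw [rs_smul, smul_tm, ap_smul])
    (fun V W g a => hev_ext fun Z k m => by
      rw [hev_rs]
      change ap f Z (tm (rs A k (rs A g a)) m) = ap f Z (tm (rs A (k ≫ g) a) m)
      rw [rs_rs])

theorem hev_curry (f : ((tensorBi O).obj A).obj M ⟶ N) {V Z : C} (a : sect A V) (g : Z ⟶ V) (m : sect M Z) :
    hev (ap (curry f) V a) g m = ap f Z (tm (rs A g a) m) := rfl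

theorem uncurry_aux₁ (φ : A ⟶ HMobj M N) (V : C) (r : O.obj.obj (op V)) (a : sect A V) (m : sect M V) :
    hev (ap φ V (r • a)) (𝟙 V) m = r • hev (ap φ V a) (𝟙 V) m := by
  rw [ap_smul, hev_smul, op_id, O.obj.map_id]
  rfl

theorem uncurry_aux₂ (φ : A ⟶ HMobj M N) ⦃V W : C⦄ (g : W ⟶ V) (a : sect A V) (m : sect M V) :
    hev (ap φ W (rs A g a)) (𝟙 W) (rs M g m) = rs N g (hev (ap φ V a) (𝟙 V) m) := by
  rw [ap_rs, hev_rs, ← hev_comp_rs, Category.id_comp, Category.comp_id]

/-- Uncurrying. -/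
noncomputable def uncurry (φ : A ⟶ HMobj M N) : ((tensorBi O).obj A).obj M ⟶ N :=
  tdesc (fun V => AddMonoidHom.mk' (fun a => hev (ap φ V a) (𝟙 V))
      fun a a' => AddMonoidHom.ext fun m => by
        rw [map_add]
        rfl)
    (fun V r a m => uncurry_aux₁ φ V r a m)
    (fun V r a m => hev_lin _ _ _ _)
    (fun _ _ g a m => uncurry_aux₂ φ g a m)

theorem ap_uncurry_tm (φ : A ⟶ HMobj M N) {V : C} (a : sect A V) (m : sect M V) :
    ap (uncurry φ) V (tm a m) = hev (ap φ V a) (𝟙 V) m := ap_tdesc _ _ _ _ a m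

theorem curry_uncurry (φ : A ⟶ HMobj M N) : curry (uncurry φ) = φ :=
  hom_ext fun V a => hev_ext fun Z g m => by
    rw [hev_curry, ap_uncurry_tm, ap_rs, hev_rs, Category.id_comp]

theorem uncurry_curry (f : ((tensorBi O).obj A).obj M ⟶ N) : uncurry (curry f) = f :=
  tens_hom_ext fun V a m => by
    rw [ap_uncurry_tm, hev_curry, rs_id]

/-- The tensor-hom equivalence. -/
noncomputable def curryEquiv : (((tensorBi O).obj A).obj M ⟶ N) ≃ (A ⟶ HMobj M N) where
  toFun := curry
  invFun := uncurry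
  left_inv f := uncurry_curry f
  right_inv φ := curry_uncurry φ

theorem uncurry_naturality {A' : Mod O} (f : A ⟶ A') (φ : A' ⟶ HMobj M N) :
    uncurry (f ≫ φ) = ((tensorBi O).map f).app M ≫ uncurry φ :=
  tens_hom_ext fun V a m => by
    have e1 : ap (((tensorBi O).map f).app M ≫ uncurry φ) V (tm a m) =
        ap (uncurry φ) V (tm (ap f V a) m) :=
      (ap_comp _ _ _).trans (congrArg _ (ap_tm_right f a m))
    rw [e1, ap_uncurry_tm, ap_uncurry_tm, ap_comp]

theorem curry_naturality (f : ((tensorBi O).obj A).obj M ⟶ N) (g : N ⟶ P) :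
    curry (f ≫ g) = curry f ≫ HMmap M g :=
  hom_ext fun V a => hev_ext fun Z k m => by
    rw [hev_curry, ap_comp, ap_comp, hev_HMmap, hev_curry]

/-- The equivalence of the tensor-hom adjunction. -/
noncomputable def coreHM (M : Mod O) :
    Adjunction.CoreHomEquiv ((tensorBi O).flip.obj M) (HM M) where
  homEquiv A N := (curryEquiv : (((tensorBi O).obj A).obj M ⟶ N) ≃ (A ⟶ HMobj M N))
  homEquiv_naturality_left_symm f φ := uncurry_naturality f φ
  homEquiv_naturality_right {A N P} f g := curry_naturality (A := A) (M := M) (N := N) (P := P) f g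

/-- The tensor-hom adjunction. -/
noncomputable def adjHM (M : Mod O) : (tensorBi O).flip.obj M ⊣ HM M :=
  Adjunction.mkOfHomEquiv (coreHM M)

instance hasSheafHom (M : Mod O) : HasSheafHom M := ⟨⟨HM M, ⟨adjHM M⟩⟩⟩

/-- The internal hom is the explicit one. -/
noncomputable def sheafHomIso (M : Mod O) [HasSheafHom M] : sheafHom M ≅ HM M :=
  Adjunction.rightAdjointUniq (F := (tensorBi O).flip.obj M) (Adjunction.ofIsLeftAdjoint _) (adjHM M)

end Tensor

end K296.IHom
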