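import Groth.Agent.ModSite.K296.IHom
import Groth.Agent.ModSite.K293.Restr
import Groth.Agent.ExtSupp.K787.RestrAb
import Groth.Agent.CohqA.DerComp

/-!
# The internal hom commutes with restriction to slices

* `isIso_of_bij`: a morphism bijective on sections is an isomorphism;
* `restrHM`: `HM M ⋙ restr X ≅ restr X ⋙ HM (M|_X)`;
* `extShRestr`: the same for the sheaves `Ext`.
-/

set_option autoImplicit false

universe u

open CategoryTheory CategoryTheory.Limits Opposite

namespace K296.IHom

open ModSite K296.FreeOn K293.LocHom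

variable {C : Type u} [SmallCategory C] {J : GrothendieckTopology C} {O : Sheaf J CommRingCat.{u}}

/-- A morphism of sheaves of modules which is bijective on sections is an isomorphism. -/
theorem isIso_of_bij {M N : Mod O} (f : M ⟶ N) (h : ∀ V : C, Function.Bijective (ap f V)) : IsIso f := by
  have h1 : Mono f := (mono_iff f).2 fun V s hs => (h V).1 (hs.trans (map_zero _).symm)
  have h2 : Epi f := (epi_iff f).2 fun V t => ⟨⊤, J.top_mem _, fun W g _ => (h W).2 _⟩
  exact isIso_of_mono_of_epi f

section Restr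

variable (M N P : Mod O) (X : C)

/-- The comparison map. -/
noncomputable def restrHMhom : (ModSite.restr O X).obj (HMobj M N) ⟶
    HMobj ((ModSite.restr O X).obj M) ((ModSite.restr O X).obj N) :=
  mkHom (M := (ModSite.restr O X).obj (HMobj M N))
    (N := HMobj ((ModSite.restr O X).obj M) ((ModSite.restr O X).obj N))
    (fun Y => AddMonoidHom.mk' (fun φ => mkLH ((ModSite.restr O X).obj M) ((ModSite.restr O X).obj N) Y
        (fun Z a => hev (M := M) (N := N) (V := Y.left) φ a.left)
        (fun Z a r s => hev_lin (M := M) (N := N) (V := Y.left) φ a.left r s)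
        (fun Z Z' a b s => hev_comp_rs (M := M) (N := N) (V := Y.left) φ a.left b.left s))
      (fun φ ψ => hev_ext fun Z a s => rfl))
    (fun Y r φ => hev_ext fun Z a s => rfl)
    (fun Y Y' g φ => hev_ext fun Z a s => rfl)

theorem hev_restrHMhom {Y Z : Over X} (φ : sect (HMobj M N) Y.left) (a : Z ⟶ Y) (s : sect M Z.left) :
    hev (M := (ModSite.restr O X).obj M) (N := (ModSite.restr O X).obj N)
      (ap (restrHMhom M N X) Y φ) a s = hev φ a.left s := rfl

/-- The value of a local map on `C/X` over an arrow of `C`. -/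
noncomputable def oev {Y : Over X} (ψ : LH Y ((ModSite.restr O X).obj M) ((ModSite.restr O X).obj N))
    {W : C} (z : W ⟶ X) (a : W ⟶ Y.left) (h : a ≫ Y.hom = z) : sect M W →+ sect N W :=
  lev ψ (Over.homMk a h : Over.mk z ⟶ Y)

theorem oev_congr {Y : Over X} (ψ : LH Y ((ModSite.restr O X).obj M) ((ModSite.restr O X).obj N))
    {W : C} (z z' : W ⟶ X) (a : W ⟶ Y.left) (h : a ≫ Y.hom = z) (h' : a ≫ Y.hom = z') :
    oev M N X ψ z a h = oev M N X ψ z' a h' := by
  obtain rfl : z = z' := h.symm.trans h'
  rfl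

theorem oev_lin {Y : Over X} (ψ : LH Y ((ModSite.restr O X).obj M) ((ModSite.restr O X).obj N))
    {W : C} (z : W ⟶ X) (a : W ⟶ Y.left) (h : a ≫ Y.hom = z) (r : O.obj.obj (op W)) (s : sect M W) :
    oev M N X ψ z a h (r • s) = r • oev M N X ψ z a h s :=
  lev_smul ψ (Over.homMk a h : Over.mk z ⟶ Y) r s

theorem oev_rs {Y : Over X} (ψ : LH Y ((ModSite.restr O X).obj M) ((ModSite.restr O X).obj N))
    {W W' : C} (z : W ⟶ X) (z' : W' ⟶ X) (a : W ⟶ Y.left) (h : a ≫ Y.hom = z) (b : W' ⟶ W)
    (h' : (b ≫ a) ≫ Y.hom = z') (h'' : b ≫ z = z') (s : sect M W) :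
    oev M N X ψ z' (b ≫ a) h' (rs M b s) = rs N b (oev M N X ψ z a h s) :=
  lev_rs ψ (Over.homMk a h : Over.mk z ⟶ Y) (Over.homMk b h'' : Over.mk z' ⟶ Over.mk z) s

theorem oev_eq_lev {Y Z : Over X} (ψ : LH Y ((ModSite.restr O X).obj M) ((ModSite.restr O X).obj N))
    (a : Z ⟶ Y) (s : sect M Z.left) : oev M N X ψ Z.hom a.left (Over.w a) s = lev ψ a s := rfl

/-- The inverse of the comparison map on sections. -/
noncomputable def invLH {Y : Over X} (ψ : LH Y ((ModSite.restr O X).obj M) ((ModSite.restr O X).obj N)) :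
    LH Y.left M N :=
  mkLH M N Y.left (fun _ a => oev M N X ψ (a ≫ Y.hom) a rfl) (fun _ a r s => oev_lin M N X ψ _ a rfl r s)
    (fun _ _ a b s => oev_rs M N X ψ _ _ a rfl b rfl (Category.assoc _ _ _).symm s)

theorem lev_invLH {Y : Over X} (ψ : LH Y ((ModSite.restr O X).obj M) ((ModSite.restr O X).obj N))
    {Z : C} (a : Z ⟶ Y.left) (s : sect M Z) :
    lev (invLH M N X ψ) a s = oev M N X ψ (a ≫ Y.hom) a rfl s := rfl

theorem injective_restrHMhom (Y : Over X) : Function.Injective (ap (restrHMhom M N X) Y) := by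
  intro φ ψ h
  refine hev_ext (M := M) (N := N) (V := Y.left) fun Z a s => ?_
  have e1 := hev_restrHMhom M N X φ (Over.homMk a : Over.mk (a ≫ Y.hom) ⟶ Y) s
  have e2 := hev_restrHMhom M N X ψ (Over.homMk a : Over.mk (a ≫ Y.hom) ⟶ Y) s
  rw [h] at e1
  exact e1.symm.trans e2

theorem surjective_restrHMhom (Y : Over X) : Function.Surjective (ap (restrHMhom M N X) Y) := by
  intro ψ
  refine ⟨invLH M N X ψ, ?_⟩
  refine hev_ext (M := (ModSite.restr O X).obj M) (N := (ModSite.restr O X).obj N) fun Z a s => ?_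
  have e1 := hev_restrHMhom M N X (invLH M N X ψ) a s
  have e2 := congrFun (congrArg DFunLike.coe
    (oev_congr M N X (Y := Y) ψ (a.left ≫ Y.hom) Z.hom a.left rfl (Over.w a))) s
  exact e1.trans e2

theorem bijective_restrHMhom (Y : Over X) : Function.Bijective (ap (restrHMhom M N X) Y) :=
  ⟨injective_restrHMhom M N X Y, surjective_restrHMhom M N X Y⟩

instance isIso_restrHMhom : IsIso (restrHMhom M N X) := isIso_of_bij _ (bijective_restrHMhom M N X)

/-- The comparison isomorphism. -/
noncomputable def restrHMiso : (ModSite.restr O X).obj (HMobj M N) ≅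
    HMobj ((ModSite.restr O X).obj M) ((ModSite.restr O X).obj N) :=
  asIso (restrHMhom M N X)

/-- The internal hom commutes with restriction. -/
noncomputable def restrHM : HM M ⋙ ModSite.restr O X ≅ ModSite.restr O X ⋙ HM ((ModSite.restr O X).obj M) :=
  NatIso.ofComponents (fun N => restrHMiso M N X) (fun {N P} f => hom_ext fun Y φ =>
    hev_ext (M := (ModSite.restr O X).obj M) (N := (ModSite.restr O X).obj P) fun Z a s => rfl)

/-- The internal hom commutes with restriction. -/
noncomputable def restrSheafHom [HasSheafHom M] [HasSheafHom ((ModSite.restr O X).obj M)] :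
    sheafHom M ⋙ ModSite.restr O X ≅ ModSite.restr O X ⋙ sheafHom ((ModSite.restr O X).obj M) :=
  Functor.isoWhiskerRight (sheafHomIso M) _ ≪≫ restrHM M X ≪≫
    Functor.isoWhiskerLeft _ (sheafHomIso ((ModSite.restr O X).obj M)).symm

instance preservesInjective_restr : (ModSite.restr O X).PreservesInjectiveObjects := by
  have h1 := K787.RestrAb.preservesFiniteLimits_extZero O X
  exact Functor.preservesInjectiveObjects_of_adjunction_of_preservesMonomorphisms (ModSite.extZeroAdj O X)

/-- The Ext sheaves commute with restriction. -/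
noncomputable def extShRestr [HasSheafHom M] [HasSheafHom ((ModSite.restr O X).obj M)]
    [HasInjectiveResolutions (ModSite.Mod O)] [HasInjectiveResolutions (ModSite.Mod (O.over X))] (q : ℕ) :
    extSh M q ⋙ ModSite.restr O X ≅ ModSite.restr O X ⋙ extSh ((ModSite.restr O X).obj M) q :=
  Groth.Agent.CohqA.DerComp.compIso (F := sheafHom M) (F' := sheafHom ((ModSite.restr O X).obj M))
    (a := ModSite.restr O X) (b := ModSite.restr O X) (restrSheafHom M X) q

end Restr

end K296.IHom
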