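import Groth.Agent.ModSite.K296.IHom
import Groth.Agent.ModSite.K296.Filt

/-!
# Locally finitely presented modules on a ringed site, elementwise

* `Loc J V p`: `p` holds on the members of a covering sieve of `V`;
* `Pres M W`: an elementwise finite presentation of `M` over `W`; `Pres.restr`;
* `Pres.exists_lh`: local maps out of `M` from elements satisfying the relations;
* `loc_pres`: a module of finite presentation has elementwise presentations locally;
* `locElem_HM`: the internal hom out of a module of finite presentation preserves `LocElem`.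
-/

set_option autoImplicit false

universe u

open CategoryTheory CategoryTheory.Limits Opposite

namespace K296.LocFP

open ModSite K296.FreeOn K293.LocHom K296.IHom

section Loc

variable {C : Type u} [SmallCategory C] (J : GrothendieckTopology C)

/-- `p` holds locally on `V`. -/
def Loc (V : C) (p : ∀ ⦃W : C⦄, (W ⟶ V) → Prop) : Prop :=
  ∃ S ∈ J V, ∀ ⦃W : C⦄ (g : W ⟶ V), S g → p g

variable {J}

theorem Loc.mono {V : C} {p q : ∀ ⦃W : C⦄, (W ⟶ V) → Prop} (h : Loc J V p)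
    (hpq : ∀ ⦃W : C⦄ (g : W ⟶ V), p g → q g) : Loc J V q := by
  obtain ⟨S, hS, h'⟩ := h
  exact ⟨S, hS, fun W g hg => hpq g (h' g hg)⟩

theorem Loc.of_forall {V : C} {p : ∀ ⦃W : C⦄, (W ⟶ V) → Prop} (h : ∀ ⦃W : C⦄ (g : W ⟶ V), p g) : Loc J V p :=
  ⟨⊤, J.top_mem _, fun _ g _ => h g⟩

theorem Loc.bind {V : C} {p q : ∀ ⦃W : C⦄, (W ⟶ V) → Prop} (h : Loc J V p)
    (hpq : ∀ ⦃W : C⦄ (g : W ⟶ V), p g → Loc J W (fun _ k => q (k ≫ g))) : Loc J V q := by
  obtain ⟨S, hS, h'⟩ := h
  choose T hT hT' using fun (W : C) (g : W ⟶ V) (hg : S g) => hpq g (h' g hg)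
  refine ⟨Sieve.bind S.arrows T, J.bind_covering hS (fun W g hg => hT W g hg), ?_⟩
  rintro W _ ⟨Y, k, g, hg, hk, rfl⟩
  exact hT' Y g hg k hk

theorem Loc.and {V : C} {p q : ∀ ⦃W : C⦄, (W ⟶ V) → Prop} (h : Loc J V p) (h' : Loc J V q) :
    Loc J V (fun _ g => p g ∧ q g) := by
  obtain ⟨S, hS, h₁⟩ := h
  obtain ⟨T, hT, h₂⟩ := h'
  exact ⟨S ⊓ T, J.intersection_covering hS hT, fun W g hg => ⟨h₁ g hg.1, h₂ g hg.2⟩⟩

theorem Loc.all {V : C} {ι : Type*} [Finite ι] {p : ι → ∀ ⦃W : C⦄, (W ⟶ V) → Prop} (h : ∀ i, Loc J V (p i)) :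
    Loc J V (fun _ g => ∀ i, p i g) := by
  classical
  have := Fintype.ofFinite ι
  choose S hS hS' using h
  refine ⟨Finset.univ.inf S, ?_, fun W g hg i => hS' i g ?_⟩
  · have : ∀ A : Finset ι, A.inf S ∈ J V := by
      intro A
      induction A using Finset.induction_on with
      | empty => simp
      | insert a A _ ih =>
        rw [Finset.inf_insert]
        exact J.intersection_covering (hS a) ih
    exact this _
  · have : Finset.univ.inf S ≤ S i := Finset.inf_le (Finset.mem_univ i)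
    exact this _ hg

/-- Restriction of a local property. -/
theorem Loc.pull {V V' : C} {p : ∀ ⦃W : C⦄, (W ⟶ V) → Prop} (h : Loc J V p) (f : V' ⟶ V) :
    Loc J V' (fun _ g => p (g ≫ f)) := by
  obtain ⟨S, hS, h'⟩ := h
  exact ⟨S.pullback f, J.pullback_stable f hS, fun W g hg => h' _ hg⟩

end Loc

variable {C : Type u} [SmallCategory C] {J : GrothendieckTopology C} {O : Sheaf J CommRingCat.{u}}

theorem eq_of_loc {F : Mod O} {V : C} {s t : sect F V} (h : Loc J V (fun _ g => rs F g s = rs F g t)) : s = t := by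
  obtain ⟨S, hS, h'⟩ := h
  exact eq_of_locally s t S hS h'

/-- Restriction of sections of the structure sheaf. -/
noncomputable abbrev ro (O : Sheaf J CommRingCat.{u}) {V W : C} (g : W ⟶ V) :
    O.obj.obj (op V) →+* O.obj.obj (op W) := (O.obj.map g.op).hom

theorem ro_ro {V W Z : C} (g : W ⟶ V) (h : Z ⟶ W) (r : O.obj.obj (op V)) :
    ro O h (ro O g r) = ro O (h ≫ g) r := by
  have : O.obj.map (h ≫ g).op = O.obj.map g.op ≫ O.obj.map h.op := by rw [op_comp, O.obj.map_comp]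
  exact (ConcreteCategory.congr_hom this r).symm

theorem ro_id {V : C} (r : O.obj.obj (op V)) : ro O (𝟙 V) r = r := by
  have : O.obj.map (𝟙 V).op = 𝟙 _ := by rw [op_id, O.obj.map_id]
  exact ConcreteCategory.congr_hom this r

/-- The structure sheaf is separated. -/
theorem ro_eq_of_loc {V : C} {r t : O.obj.obj (op V)} (h : Loc J V (fun _ g => ro O g r = ro O g t)) : r = t :=
  eq_of_loc (F := ModSite.unit O) h

/-- An elementwise finite presentation of `M` over `W`. -/
structure Pres (M : Mod O) (W : C) where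
  n : Type u
  m : Type u
  [fn : Fintype n]
  [fm : Fintype m]
  x : n → sect M W
  a : m → n → O.obj.obj (op W)
  rel : ∀ j, ∑ k, a j k • x k = 0
  gen : ∀ ⦃Z : C⦄ (g : Z ⟶ W) (s : sect M Z), Loc J Z (fun Y h => ∃ b : n → O.obj.obj (op Y),
    rs M h s = ∑ k, b k • rs M (h ≫ g) (x k))
  relgen : ∀ ⦃Z : C⦄ (g : Z ⟶ W) (b : n → O.obj.obj (op Z)), ∑ k, b k • rs M g (x k) = 0 →
    Loc J Z (fun Y h => ∃ c : m → O.obj.obj (op Y), ∀ k, ro O h (b k) = ∑ j, c j * ro O (h ≫ g) (a j k))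

attribute [instance] Pres.fn Pres.fm

namespace Pres

variable {M N : Mod O} {W : C}

/-- Restriction of a presentation. -/
noncomputable def restr (P : Pres M W) {W' : C} (f : W' ⟶ W) : Pres M W' where
  n := P.n
  m := P.m
  x k := rs M f (P.x k)
  a j k := ro O f (P.a j k)
  rel j := by
    have h := congrArg (rs M f) (P.rel j)
    rw [map_sum, map_zero] at h
    simpa only [rs_smul] using h
  gen Z g s := (P.gen (g ≫ f) s).mono fun Y h ⟨b, hb⟩ => ⟨b, by
    rw [hb]
    exact Finset.sum_congr rfl fun k _ => by rw [rs_rs, Category.assoc]⟩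
  relgen Z g b hb := by
    have hb' : ∑ k, b k • rs M (g ≫ f) (P.x k) = 0 := by
      rw [← hb]
      exact Finset.sum_congr rfl fun k _ => by rw [rs_rs]
    refine (P.relgen (g ≫ f) b hb').mono fun Y h ⟨c, hc⟩ => ⟨c, fun k => ?_⟩
    rw [hc]
    exact Finset.sum_congr rfl fun j _ => by rw [ro_ro, Category.assoc]

/-- Local maps which agree on generators are equal. -/
theorem lh_ext (P : Pres M W) {φ ψ : LH W M N} (h : ∀ k, lev φ (𝟙 W) (P.x k) = lev ψ (𝟙 W) (P.x k)) : φ = ψ := by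
  refine IHom.lh_ext fun Z g s => eq_of_loc ((P.gen g s).mono fun Y h' ⟨b, hb⟩ => ?_)
  rw [← lev_rs, ← lev_rs, hb, map_sum, map_sum]
  refine Finset.sum_congr rfl fun k _ => ?_
  have e1 : ∀ χ : LH W M N, lev χ (h' ≫ g) (rs M (h' ≫ g) (P.x k)) = rs N (h' ≫ g) (lev χ (𝟙 W) (P.x k)) := by
    intro χ
    rw [← lev_rs, Category.comp_id]
  rw [lev_smul, lev_smul, e1, e1, h]

/-- Linear combinations of elements satisfying the relations only depend on the combination of generators. -/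
theorem comb_eq (P : Pres M W) (y : P.n → sect N W) (hy : ∀ j, ∑ k, P.a j k • y k = 0) {Z : C} (g : Z ⟶ W)
    (b b' : P.n → O.obj.obj (op Z)) (h : ∑ k, b k • rs M g (P.x k) = ∑ k, b' k • rs M g (P.x k)) :
    ∑ k, b k • rs N g (y k) = ∑ k, b' k • rs N g (y k) := by
  rw [← sub_eq_zero, ← Finset.sum_sub_distrib] at h ⊢
  simp only [← sub_smul] at h ⊢
  refine eq_of_loc ((P.relgen g (fun k => b k - b' k) h).mono fun Y h' ⟨c, hc⟩ => ?_)
  rw [map_sum, map_zero]
  have e1 : ∀ k, rs N h' ((b k - b' k) • rs N g (y k)) =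
      ∑ j, c j • (ro O (h' ≫ g) (P.a j k) • rs N (h' ≫ g) (y k)) := by
    intro k
    rw [rs_smul, rs_rs]
    change ro O h' (b k - b' k) • _ = _
    rw [hc, Finset.sum_smul]
    exact Finset.sum_congr rfl fun j _ => mul_smul _ _ _
  rw [Finset.sum_congr rfl fun k _ => e1 k, Finset.sum_comm]
  refine Finset.sum_eq_zero fun j _ => ?_
  rw [← Finset.smul_sum]
  have e2 := congrArg (rs N (h' ≫ g)) (hy j)
  rw [map_sum, map_zero] at e2
  have e3 : ∑ k, ro O (h' ≫ g) (P.a j k) • rs N (h' ≫ g) (y k) = 0 := by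
    refine Eq.trans (Finset.sum_congr rfl fun k _ => ?_) e2
    exact (rs_smul _ _ _ _).symm
  rw [e3, smul_zero]

/-- Extension of an assignment on generators. -/
theorem exists_val (P : Pres M W) (y : P.n → sect N W) (hy : ∀ j, ∑ k, P.a j k • y k = 0) {Z : C} (g : Z ⟶ W)
    (s : sect M Z) : ∃ t : sect N Z, ∀ ⦃Y : C⦄ (h : Y ⟶ Z) (b : P.n → O.obj.obj (op Y)),
      rs M h s = ∑ k, b k • rs M (h ≫ g) (P.x k) → rs N h t = ∑ k, b k • rs N (h ≫ g) (y k) := by
  obtain ⟨S, hS, h'⟩ := P.gen g s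
  have hN : Presieve.IsSheaf J (N.val.presheaf ⋙ forget _) := (isSheaf_iff_isSheaf_of_type _ _).1
    ((Presheaf.isSheaf_iff_isSheaf_forget J N.val.presheaf (forget AddCommGrpCat.{u})).1 N.isSheaf)
  choose b hb using h'
  let z : Presieve.FamilyOfElements (N.val.presheaf ⋙ forget _) S.arrows :=
    fun Y h hh => ∑ k, b h hh k • rs N (h ≫ g) (y k)
  have hz : z.Compatible := by
    rw [Presieve.compatible_iff_sieveCompatible]
    intro Y Y' h k hh
    change ∑ i, b (k ≫ h) _ i • rs N ((k ≫ h) ≫ g) (y i) = rs N k (∑ i, b h hh i • rs N (h ≫ g) (y i))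
    have e1 : rs N k (∑ i, b h hh i • rs N (h ≫ g) (y i)) =
        ∑ i, ro O k (b h hh i) • rs N ((k ≫ h) ≫ g) (y i) := by
      rw [map_sum]
      refine Finset.sum_congr rfl fun i _ => ?_
      rw [rs_smul, rs_rs, Category.assoc]
    rw [e1]
    refine P.comb_eq y hy _ _ _ ?_
    rw [← hb, ← rs_rs, hb h hh, map_sum]
    refine Finset.sum_congr rfl fun i _ => ?_
    rw [rs_smul, rs_rs, Category.assoc]
  have h1 : ∃ t : sect N Z, ∀ ⦃Y : C⦄ (h : Y ⟶ Z) (hh : S h),
      rs N h t = ∑ k, b h hh k • rs N (h ≫ g) (y k) := by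
    obtain ⟨t, ht, -⟩ := hN _ hS z hz
    exact ⟨t, fun Y h hh => ht h hh⟩
  obtain ⟨t, ht'⟩ := h1
  refine ⟨t, fun Y h c hc => ?_⟩
  refine eq_of_loc ⟨S.pullback h, J.pullback_stable h hS, fun Y' k hk => ?_⟩
  dsimp only
  rw [rs_rs, ht' (k ≫ h) hk, map_sum]
  have e1 : ∀ i, rs N k (c i • rs N (h ≫ g) (y i)) = ro O k (c i) • rs N ((k ≫ h) ≫ g) (y i) := by
    intro i
    rw [rs_smul, rs_rs, Category.assoc]
  rw [Finset.sum_congr rfl fun i _ => e1 i]
  refine P.comb_eq y hy _ _ _ ?_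
  rw [← hb, ← rs_rs, hc, map_sum]
  refine Finset.sum_congr rfl fun i _ => ?_
  rw [rs_smul, rs_rs, Category.assoc]

/-- Local maps out of `M` from elements satisfying the relations. -/
theorem exists_lh (P : Pres M W) (y : P.n → sect N W) (hy : ∀ j, ∑ k, P.a j k • y k = 0) :
    ∃ φ : LH W M N, ∀ k, lev φ (𝟙 W) (P.x k) = y k := by
  classical
  choose t ht using fun (Z : C) (g : Z ⟶ W) (s : sect M Z) => P.exists_val y hy g s
  have uniq : ∀ ⦃Z : C⦄ (g : Z ⟶ W) (s : sect M Z) (t' : sect N Z),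
      Loc J Z (fun Y h => ∃ b : P.n → O.obj.obj (op Y), rs M h s = ∑ k, b k • rs M (h ≫ g) (P.x k) ∧
        rs N h t' = ∑ k, b k • rs N (h ≫ g) (y k)) → t Z g s = t' := by
    intro Z g s t' h
    refine eq_of_loc (h.mono fun Y h' ⟨b, hb, hb'⟩ => ?_)
    rw [hb', ht Z g s h' b hb]
  refine ⟨mkLH M N W (fun Z g => AddMonoidHom.mk' (t Z g) fun s s' => ?_) ?_ ?_, ?_⟩
  · refine uniq g _ _ (((P.gen g s).and (P.gen g s')).mono fun Y h ⟨⟨b, hb⟩, ⟨b', hb'⟩⟩ =>
      ⟨fun k => b k + b' k, ?_, ?_⟩)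
    · rw [map_add, hb, hb', ← Finset.sum_add_distrib]
      exact Finset.sum_congr rfl fun k _ => (add_smul _ _ _).symm
    · rw [map_add, ht Z g s h b hb, ht Z g s' h b' hb', ← Finset.sum_add_distrib]
      exact Finset.sum_congr rfl fun k _ => (add_smul _ _ _).symm
  · intro Z g r s
    refine uniq g _ _ ((P.gen g s).mono fun Y h ⟨b, hb⟩ => ⟨fun k => ro O h r * b k, ?_, ?_⟩)
    · rw [rs_smul, hb, Finset.smul_sum]
      exact Finset.sum_congr rfl fun k _ => (mul_smul _ _ _).symm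
    · change rs N h (r • t Z g s) = _
      rw [rs_smul, ht Z g s h b hb, Finset.smul_sum]
      exact Finset.sum_congr rfl fun k _ => (mul_smul _ _ _).symm
  · intro Z Z' g f s
    refine uniq (f ≫ g) _ _ (((P.gen g s).pull f).mono fun Y h ⟨b, hb⟩ => ⟨b, ?_, ?_⟩)
    · rw [rs_rs, hb, Category.assoc]
    · change rs N h (rs N f (t Z g s)) = _
      rw [rs_rs, ht Z g s (h ≫ f) b hb, Category.assoc]
  · intro k
    refine uniq (𝟙 W) _ _ (Loc.of_forall fun Y h => ⟨fun i => if i = k then 1 else 0, ?_, ?_⟩)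
    · simp
    · simp

end Pres

end K296.LocFP
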