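import Groth.Agent.ModSite.K296.LocFP

/-!
# Modules of finite presentation have elementwise presentations locally

* coordinates of sections of a finite free module: `bas`, `prF`, `sum_bas`;
* `Pres.ofExact`: an exact sequence `free K ⟶ free I ⟶ M|_X ⟶ 0` on `C/X` gives `Pres M X`;
* `loc_pres`.
-/

set_option autoImplicit false

universe u

open CategoryTheory CategoryTheory.Limits Opposite

namespace K296.LocFP

open ModSite K296.FreeOn K293.LocHom K296.IHom

variable {C : Type u} [SmallCategory C] {J : GrothendieckTopology C} {O : Sheaf J CommRingCat.{u}}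

section Free

/-- Evaluation of morphisms at a section. -/
noncomputable def evHom {F G : Mod O} {V : C} (s : sect F V) : (F ⟶ G) →+ sect G V where
  toFun f := ap f V s
  map_zero' := rfl
  map_add' _ _ := rfl

variable {I : Type u} {V : C}

/-- The basis sections of a free module. -/
noncomputable def bas (O : Sheaf J CommRingCat.{u}) (V : C) (i : I) :
    sect (SheafOfModules.free (R := ringSh O) I : Mod O) V :=
  ap (F := ModSite.unit O) (SheafOfModules.ιFree (R := ringSh O) i) V (1 : O.obj.obj (op V))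

theorem rs_bas {W : C} (g : W ⟶ V) (i : I) :
    rs _ g (bas O V i) = bas O W i := by
  unfold bas
  rw [← ap_rs]
  congr 1
  exact map_one (O.obj.map g.op).hom

open Classical in
/-- The coordinates of a free module. -/
noncomputable def prF (O : Sheaf J CommRingCat.{u}) (i : I) :
    (SheafOfModules.free (R := ringSh O) I : Mod O) ⟶ ModSite.unit O :=
  Cofan.IsColimit.desc (SheafOfModules.isColimitFreeCofan (R := ringSh O) I)
    (fun j => if j = i then 𝟙 (ModSite.unit O) else 0)

open Classical in
theorem ιFree_prF (i j : I) : SheafOfModules.ιFree (R := ringSh O) j ≫ prF O i =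
    if j = i then 𝟙 (ModSite.unit O) else 0 :=
  Cofan.IsColimit.fac (SheafOfModules.isColimitFreeCofan (R := ringSh O) I) _ j

/-- The coordinates of a section of a free module. -/
noncomputable def crd (i : I) (t : sect (SheafOfModules.free (R := ringSh O) I : Mod O) V) : O.obj.obj (op V) :=
  ap (prF O i) V t

theorem crd_smul (i : I) (r : O.obj.obj (op V)) (t : sect (SheafOfModules.free (R := ringSh O) I : Mod O) V) :
    crd i (r • t) = r * crd i t := ap_smul (prF O i) r t

theorem crd_sum {κ : Type*} (i : I) (A : Finset κ) (t : κ → sect (SheafOfModules.free (R := ringSh O) I : Mod O) V) :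
    crd i (∑ k ∈ A, t k) = ∑ k ∈ A, crd i (t k) := map_sum (ap (prF O i) V) t A

theorem crd_rs {W : C} (g : W ⟶ V) (i : I) (t : sect (SheafOfModules.free (R := ringSh O) I : Mod O) V) :
    crd i (rs _ g t) = ro O g (crd i t) := ap_rs (prF O i) g t

open Classical in
theorem crd_bas (i j : I) : crd i (bas O V j) = if j = i then 1 else 0 := by
  unfold crd bas
  rw [← ap_comp, ιFree_prF]
  split_ifs <;> rfl

/-- A section of a finite free module is the combination of the basis sections given by its coordinates. -/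
theorem sum_bas [Fintype I] (t : sect (SheafOfModules.free (R := ringSh O) I : Mod O) V) :
    ∑ i, crd i t • bas O V i = t := by
  classical
  have h1 : ∑ i : I, prF O i ≫ SheafOfModules.ιFree (R := ringSh O) i = 𝟙 _ := by
    refine Cofan.IsColimit.hom_ext (SheafOfModules.isColimitFreeCofan (R := ringSh O) I) _ _ fun j => ?_
    change SheafOfModules.ιFree j ≫ _ = SheafOfModules.ιFree j ≫ _
    rw [Preadditive.comp_sum, Finset.sum_eq_single j]
    · rw [← Category.assoc, ιFree_prF, if_pos rfl, Category.id_comp, Category.comp_id]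
    · intro i _ hi
      rw [← Category.assoc, ιFree_prF, if_neg (Ne.symm hi), zero_comp]
    · intro h
      exact absurd (Finset.mem_univ j) h
  have h2 := congrArg (evHom (G := (SheafOfModules.free (R := ringSh O) I : Mod O)) t) h1
  rw [map_sum] at h2
  refine Eq.trans (Finset.sum_congr rfl fun i _ => ?_) h2
  change crd i t • ap (F := ModSite.unit O) (SheafOfModules.ιFree (R := ringSh O) i) V (1 : O.obj.obj (op V)) =
    ap (F := ModSite.unit O) (SheafOfModules.ιFree (R := ringSh O) i) V (crd i t)
  rw [← ap_smul]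
  congr 1
  exact mul_one (crd i t)

theorem ap_comb [Fintype I] {M : Mod O} (φ : (SheafOfModules.free (R := ringSh O) I : Mod O) ⟶ M)
    (t : sect (SheafOfModules.free (R := ringSh O) I : Mod O) V) :
    ap φ V t = ∑ i, crd i t • ap φ V (bas O V i) := by
  conv_lhs => rw [← sum_bas t]
  rw [map_sum]
  exact Finset.sum_congr rfl fun i _ => ap_smul _ _ _

theorem rs_ap_bas {M : Mod O} (φ : (SheafOfModules.free (R := ringSh O) I : Mod O) ⟶ M) {W : C} (g : W ⟶ V)
    (i : I) : rs M g (ap φ V (bas O V i)) = ap φ W (bas O W i) := by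
  rw [← ap_rs, rs_bas]

theorem crd_comb [Fintype I] (b : I → O.obj.obj (op V)) (i : I) : crd i (∑ k, b k • bas O V k) = b i := by
  classical
  rw [crd_sum, Finset.sum_eq_single i]
  · rw [crd_smul, crd_bas, if_pos rfl, mul_one]
  · intro k _ hk
    rw [crd_smul, crd_bas, if_neg hk, mul_zero]
  · intro h
    exact absurd (Finset.mem_univ i) h

theorem free_gen [Fintype I] {M : Mod O} (φ : (SheafOfModules.free (R := ringSh O) I : Mod O) ⟶ M) (hφ : Epi φ)
    (s : sect M V) : Loc J V (fun Y h => ∃ b : I → O.obj.obj (op Y), rs M h s = ∑ i, b i • ap φ Y (bas O Y i)) := by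
  obtain ⟨S, hS, hS'⟩ := (epi_iff φ).1 hφ V s
  refine ⟨S, hS, fun Y h hh => ?_⟩
  obtain ⟨t, ht⟩ := hS' h hh
  exact ⟨fun i => crd i t, by rw [← ht, ap_comb]⟩

theorem free_rel [Fintype I] {K : Type u} {M : Mod O}
    (ψ : (SheafOfModules.free (R := ringSh O) K : Mod O) ⟶ (SheafOfModules.free (R := ringSh O) I : Mod O))
    (φ : (SheafOfModules.free (R := ringSh O) I : Mod O) ⟶ M) (w : ψ ≫ φ = 0) (j : K) :
    ∑ i, crd i (ap ψ V (bas O V j)) • ap φ V (bas O V i) = 0 := by
  rw [← ap_comb, ← ap_comp, w]
  rfl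

theorem free_relgen [Fintype I] {K : Type u} [Fintype K] {M : Mod O}
    (ψ : (SheafOfModules.free (R := ringSh O) K : Mod O) ⟶ (SheafOfModules.free (R := ringSh O) I : Mod O))
    (φ : (SheafOfModules.free (R := ringSh O) I : Mod O) ⟶ M) (w : ψ ≫ φ = 0)
    (hex : (ShortComplex.mk ψ φ w).Exact) (b : I → O.obj.obj (op V)) (hb : ∑ i, b i • ap φ V (bas O V i) = 0) :
    Loc J V (fun Y h => ∃ c : K → O.obj.obj (op Y), ∀ i, ro O h (b i) = ∑ j, c j * crd i (ap ψ Y (bas O Y j))) := by
  have h0 : ap φ V (∑ i, b i • bas O V i) = 0 := by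
    rw [ap_comb, ← hb]
    exact Finset.sum_congr rfl fun i _ => by rw [crd_comb]
  obtain ⟨S, hS, hS'⟩ := (exact_iff _).1 hex V (∑ i, b i • bas O V i) h0
  refine ⟨S, hS, fun Y h hh => ?_⟩
  obtain ⟨t, ht⟩ := hS' h hh
  refine ⟨fun j => crd j t, fun i => ?_⟩
  have e1 := congrArg (crd i) ht
  have e2 : crd i (rs _ h (∑ i, b i • bas O V i)) = ro O h (b i) := by rw [crd_rs, crd_comb]
  have e3 : crd i (ap ψ Y t) = ∑ j, crd j t * crd i (ap ψ Y (bas O Y j)) := by
    rw [ap_comb, crd_sum]
    exact Finset.sum_congr rfl fun j _ => by rw [crd_smul]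
  exact e2.symm.trans (e1.symm.trans e3)

end Free

section Over

variable {X : C}

theorem loc_of_over {Z : C} (g : Z ⟶ X) {p : ∀ ⦃Y : C⦄, (Y ⟶ Z) → Prop}
    (h : Loc (J.over X) (Over.mk g) (fun W k => p k.left)) : Loc J Z p := by
  obtain ⟨S, hS, h'⟩ := h
  refine ⟨Sieve.overEquiv (Over.mk g) S, (GrothendieckTopology.mem_over_iff _ _).1 hS, fun Y k hk => ?_⟩
  rw [Sieve.overEquiv_iff] at hk
  exact h' _ hk

section

variable {M : Mod O} {I K : Type u} [Fintype I] [Fintype K]
    (ψ : (SheafOfModules.free (R := ringSh (O.over X)) K : Mod (O.over X)) ⟶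
      (SheafOfModules.free (R := ringSh (O.over X)) I : Mod (O.over X)))
    (φ : (SheafOfModules.free (R := ringSh (O.over X)) I : Mod (O.over X)) ⟶ (ModSite.restr O X).obj M)

/-- The generators. -/
noncomputable def gn {Z : C} (g : Z ⟶ X) (i : I) : sect M Z := ap φ (Over.mk g) (bas (O.over X) (Over.mk g) i)

/-- The relations. -/
noncomputable def rl {Z : C} (g : Z ⟶ X) (j : K) (i : I) : O.obj.obj (op Z) :=
  crd (O := O.over X) (V := Over.mk g) i (ap ψ (Over.mk g) (bas (O.over X) (Over.mk g) j))

theorem rs_gn {Z W : C} (g : Z ⟶ X) (h : W ⟶ Z) (i : I) : rs M h (gn φ g i) = gn φ (h ≫ g) i :=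
  rs_ap_bas (O := O.over X) φ (Over.homMk h : Over.mk (h ≫ g) ⟶ Over.mk g) i

theorem ro_rl {Z W : C} (g : Z ⟶ X) (h : W ⟶ Z) (j : K) (i : I) : ro O h (rl ψ g j i) = rl ψ (h ≫ g) j i := by
  have h1 := crd_rs (O := O.over X) (Over.homMk h : Over.mk (h ≫ g) ⟶ Over.mk g) i
    (ap ψ (Over.mk g) (bas (O.over X) (Over.mk g) j))
  rw [rs_ap_bas (O := O.over X) ψ] at h1
  exact h1.symm

/-- An exact sequence on a slice gives an elementwise presentation. -/
noncomputable def Pres.ofExact (hφ : Epi φ) (w : ψ ≫ φ = 0) (hex : (ShortComplex.mk ψ φ w).Exact) :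
    Pres M X where
  n := I
  m := K
  x := gn φ (𝟙 X)
  a := rl ψ (𝟙 X)
  rel j := free_rel (O := O.over X) (V := Over.mk (𝟙 X)) ψ φ w j
  gen Z g s := by
    refine (loc_of_over (p := fun Y h => ∃ b : I → O.obj.obj (op Y), rs M h s = ∑ i, b i • gn φ (h ≫ g) i) g ?_).mono
      fun Y h ⟨b, hb⟩ => ⟨b, ?_⟩
    · refine (free_gen (O := O.over X) (V := Over.mk g) φ hφ s).mono fun W k ⟨b, hb⟩ => ⟨b, ?_⟩
      have e : k.left ≫ g = W.hom := Over.w k
      rw [e]
      exact hb
    · rw [hb]
      exact Finset.sum_congr rfl fun i _ => by rw [rs_gn, Category.comp_id]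
  relgen Z g b hb := by
    have hb' : ∑ i, b i • gn φ g i = 0 := by
      rw [← hb]
      exact Finset.sum_congr rfl fun i _ => by rw [rs_gn, Category.comp_id]
    refine (loc_of_over (p := fun Y h => ∃ c : K → O.obj.obj (op Y), ∀ i, ro O h (b i) = ∑ j, c j * rl ψ (h ≫ g) j i)
      g ?_).mono fun Y h ⟨c, hc⟩ => ⟨c, fun i => ?_⟩
    · refine (free_relgen (O := O.over X) (V := Over.mk g) ψ φ w hex b hb').mono fun W k ⟨c, hc⟩ => ⟨c, fun i => ?_⟩
      have e : k.left ≫ g = W.hom := Over.w k
      rw [e]
      exact hc i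
    · rw [hc]
      exact Finset.sum_congr rfl fun j _ => by rw [ro_rl, Category.comp_id]

end

/-- A finite presentation on a slice gives an elementwise presentation. -/
theorem nonempty_pres {M : Mod O} (P : SheafOfModules.Presentation ((ModSite.restr O X).obj M)) (hP : P.IsFinite) :
    Nonempty (Pres M X) := by
  have h1 : Finite P.generators.I := SheafOfModules.GeneratingSections.IsFiniteType.finite
  have h2 : Finite P.relations.I := SheafOfModules.GeneratingSections.IsFiniteType.finite
  have := Fintype.ofFinite P.generators.I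
  have := Fintype.ofFinite P.relations.I
  have w : (P.relations.π ≫ kernel.ι P.generators.π) ≫ P.generators.π = 0 := by
    rw [Category.assoc, kernel.condition, comp_zero]
  refine ⟨Pres.ofExact (P.relations.π ≫ kernel.ι P.generators.π) P.generators.π inferInstance w ?_⟩
  have h3 : (ShortComplex.mk (kernel.ι P.generators.π) P.generators.π (kernel.condition _)).Exact :=
    ShortComplex.exact_of_f_is_kernel _ (kernelIsKernel _)
  rw [ShortComplex.exact_iff_epi_kernel_lift] at h3 ⊢
  have h4 : kernel.lift P.generators.π (P.relations.π ≫ kernel.ι P.generators.π) w = P.relations.π := by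
    rw [← cancel_mono (kernel.ι P.generators.π), kernel.lift_ι]
  change Epi (kernel.lift P.generators.π (P.relations.π ≫ kernel.ι P.generators.π) w)
  rw [h4]
  infer_instance

/-- A module of finite presentation has elementwise presentations locally. -/
theorem loc_pres (M : Mod O) (hM : SheafOfModules.IsFinitePresentation (R := ringSh O) M) (V : C) :
    Loc J V (fun W _ => Nonempty (Pres M W)) := by
  obtain ⟨q, hq⟩ := hM.exists_quasicoherentData
  refine ⟨_, q.coversTop V, fun W g hg => ?_⟩
  obtain ⟨i, ⟨f⟩⟩ := (Sieve.mem_ofObjects_iff ..).mp hg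
  obtain ⟨P⟩ := nonempty_pres (q.presentation i) (hq.isFinite_presentation i)
  exact ⟨P.restr f⟩

end Over

end K296.LocFP
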