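import Groth.Agent.S0484
import Groth.Agent.ModSite.K296.Ab
import Mathlib.CategoryTheory.Adjunction.AdjointFunctorTheorems
import Mathlib.CategoryTheory.Abelian.Subobject
import Mathlib.CategoryTheory.Sites.CoverLifting
import Mathlib.CategoryTheory.Abelian.GrothendieckCategory.Basic

/-!
# Colimit preserving functors out of sheaves of modules are left adjoints
-/

set_option autoImplicit false

universe u

open CategoryTheory CategoryTheory.Limits

namespace K296.Saft

variable {C : Type u} [SmallCategory C] {J : GrothendieckTopology C} (R : Sheaf J RingCat.{u})

theorem hasColimits_mod : HasColimitsOfSize.{u, u} (SheafOfModules.{u} R) :=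
  ⟨fun _ _ => inferInstance⟩

/-- Colimit preserving functors out of a category of sheaves of modules over a small site are left adjoints. -/
theorem isLeftAdjoint {D : Type (u + 1)} [Category.{u} D] (F : SheafOfModules.{u} R ⥤ D)
    [PreservesColimitsOfSize.{u, u} F] : F.IsLeftAdjoint := by
  have h := Groth.Agent.S0484.result J R
  have hc := hasColimits_mod R
  obtain ⟨G, hG⟩ := (IsGrothendieckAbelian.hasSeparator (C := SheafOfModules.{u} R)).hasSeparator
  have hw : WellPowered.{u} (SheafOfModules.{u} R) := inferInstance
  have : WellPowered.{u} (SheafOfModules.{u} R)ᵒᵖ := inferInstance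
  exact isLeftAdjoint_of_preservesColimits_of_isSeparating hG F

variable {R}

/-- A functor to sheaves of modules preserves colimits if its composition with `toSheaf` does. -/
theorem preservesColimits_of_toSheaf {D : Type (u + 1)} [Category.{u} D] (F : D ⥤ SheafOfModules.{u} R)
    [PreservesColimitsOfSize.{u, u} (F ⋙ SheafOfModules.toSheaf.{u} R)] :
    PreservesColimitsOfSize.{u, u} F := by
  have := Ab.preservesColimits_toSheaf R
  have : ReflectsColimitsOfSize.{u, u} (SheafOfModules.toSheaf.{u} R) :=
    reflectsColimits_of_reflectsIsomorphisms
  exact preservesColimits_of_reflects_of_preserves F (SheafOfModules.toSheaf.{u} R)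

end K296.Saft
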