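import Groth.Prelude.Def_ModSite
import Groth.Agent.Dcoh.MonW

/-!
# Sheafification of presheaves of modules: the morphisms it inverts
-/

set_option autoImplicit false

universe u

open CategoryTheory CategoryTheory.Limits Opposite

namespace K296.Shf

section General

variable {C : Type u} [SmallCategory C] {J : GrothendieckTopology C} {R : Sheaf J RingCat.{u}}

/-- The morphisms of presheaves of modules which sheafification inverts. -/
abbrev WR (R : Sheaf J RingCat.{u}) : MorphismProperty (PresheafOfModules.{u} R.obj) :=
  J.W.inverseImage (PresheafOfModules.toPresheaf R.obj)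

theorem unit_mem_WR (P : PresheafOfModules.{u} R.obj) :
    WR R ((PresheafOfModules.sheafificationAdjunction (𝟙 R.obj)).unit.app P) := by
  change J.W ((PresheafOfModules.toPresheaf R.obj).map
      ((PresheafOfModules.sheafificationAdjunction (𝟙 R.obj)).unit.app P))
  rw [PresheafOfModules.toPresheaf_map_sheafificationAdjunction_unit_app]
  exact J.W_toSheafify _

theorem isIso_sheafification_map_iff {P Q : PresheafOfModules.{u} R.obj} (f : P ⟶ Q) :
    IsIso ((PresheafOfModules.sheafification (𝟙 R.obj)).map f) ↔ WR R f := by
  have h2 := PresheafOfModules.inverseImage_W_toPresheaf_eq_inverseImage_isomorphisms (𝟙 R.obj)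
  change _ ↔ (J.W.inverseImage (PresheafOfModules.toPresheaf R.obj)) f
  rw [h2]
  exact Iff.rfl

end General

variable {C : Type u} [SmallCategory C] {J : GrothendieckTopology C} (O : Sheaf J CommRingCat.{u})

/-- Presheaves of modules over the presheaf of rings underlying `O`. -/
abbrev PM := PresheafOfModules.{u} (O.obj ⋙ forget₂ CommRingCat.{u} RingCat.{u})

theorem unit_mem_W (M : PM O) : Groth.Agent.Dcoh.MonW.W J O.obj
    ((PresheafOfModules.sheafificationAdjunction (𝟙 (ModSite.ringSh O).obj)).unit.app M) :=
  unit_mem_WR (R := ModSite.ringSh O) M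

theorem isIso_sheafify_map_iff {M N : PM O} (f : M ⟶ N) :
    IsIso ((ModSite.sheafify O).map f) ↔ Groth.Agent.Dcoh.MonW.W J O.obj f :=
  isIso_sheafification_map_iff (R := ModSite.ringSh O) f

end K296.Shf
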